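import Groth.Agent.FunMorK.Proj
import Groth.Agent.H9Misc.RpushZero
import Groth.Agent.QCoh.AffineCohom
import Groth.Agent.QCoh.OpenSub
import Groth.Agent.QCoh.RpushModel
import Groth.Agent.KFlatLib.Scheme.QCohTensor

/-! Acyclicity of kernels after base change on the first factor. -/

set_option autoImplicit false
set_option linter.style.haveILetI false
set_option backward.isDefEq.respectTransparency false
set_option backward.isDefEq.respectTransparency.types false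
set_option maxHeartbeats 1000000

universe u

open CategoryTheory CategoryTheory.Limits AlgebraicGeometry TopologicalSpace

namespace Groth.Agent.FunMorK.Acyclic13

/-- Open subschemes of a fibre product cut out by opens of the factors. -/
theorem isPullback_opens {P A B C : Scheme.{u}} {fst : P ⟶ A} {snd : P ⟶ B} {a : A ⟶ C} {b : B ⟶ C}
    (h : IsPullback fst snd a b) (UA : A.Opens) (UB : B.Opens) (O : P.Opens)
    (hO : O = fst ⁻¹ᵁ UA ⊓ snd ⁻¹ᵁ UB) :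
    ∃ (l : (O : Scheme.{u}) ⟶ (UA : Scheme.{u})) (r : (O : Scheme.{u}) ⟶ (UB : Scheme.{u})),
      l ≫ UA.ι = O.ι ≫ fst ∧ r ≫ UB.ι = O.ι ≫ snd ∧ IsPullback l r (UA.ι ≫ a) (UB.ι ≫ b) := by
  subst hO
  set O := fst ⁻¹ᵁ UA ⊓ snd ⁻¹ᵁ UB
  have hl : Set.range (O.ι ≫ fst) ⊆ Set.range UA.ι := by
    rintro _ ⟨z, rfl⟩; exact UA.range_ι.symm ▸ z.2.1
  have hr : Set.range (O.ι ≫ snd) ⊆ Set.range UB.ι := by
    rintro _ ⟨z, rfl⟩; exact UB.range_ι.symm ▸ z.2.2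
  let l := IsOpenImmersion.lift UA.ι _ hl
  let r := IsOpenImmersion.lift UB.ι _ hr
  have el : l ≫ UA.ι = O.ι ≫ fst := IsOpenImmersion.lift_fac _ _ _
  have er : r ≫ UB.ι = O.ι ≫ snd := IsOpenImmersion.lift_fac _ _ _
  refine ⟨l, r, el, er, ⟨⟨by rw [reassoc_of% el, reassoc_of% er, h.w]⟩, ⟨PullbackCone.IsLimit.mk _
    (fun s => IsOpenImmersion.lift O.ι (h.lift (s.fst ≫ UA.ι) (s.snd ≫ UB.ι) (by simpa using s.condition)) ?_)
    (fun s => ?_) (fun s => ?_) (fun s m hm hm' => ?_)⟩⟩⟩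
  · rintro _ ⟨z, rfl⟩
    rw [O.range_ι]
    set d := h.lift (s.fst ≫ UA.ι) (s.snd ≫ UB.ι) (by simpa using s.condition)
    have e1 : fst (d z) = UA.ι (s.fst z) := by rw [← Scheme.Hom.comp_apply, h.lift_fst]; rfl
    have e2 : snd (d z) = UB.ι (s.snd z) := by rw [← Scheme.Hom.comp_apply, h.lift_snd]; rfl
    exact ⟨show fst (d z) ∈ UA from e1 ▸ (s.fst z).2, show snd (d z) ∈ UB from e2 ▸ (s.snd z).2⟩
  · rw [← cancel_mono UA.ι, Category.assoc, el, IsOpenImmersion.lift_fac_assoc, h.lift_fst]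
  · rw [← cancel_mono UB.ι, Category.assoc, er, IsOpenImmersion.lift_fac_assoc, h.lift_snd]
  · rw [← cancel_mono O.ι, IsOpenImmersion.lift_fac]
    refine h.hom_ext ?_ ?_
    · rw [Category.assoc, ← el, reassoc_of% hm, h.lift_fst]
    · rw [Category.assoc, ← er, reassoc_of% hm', h.lift_snd]

/-- Pullback of a tensor product. -/
noncomputable def pullTen {Y Z : Scheme.{u}} (f : Y ⟶ Z) (A B : Z.Modules) :
    (Scheme.Modules.pullback f).obj ((DCoh.tensorBi.obj A).obj B) ≅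
      (DCoh.tensorBi.obj ((Scheme.Modules.pullback f).obj A)).obj ((Scheme.Modules.pullback f).obj B) :=
  ((KFlatLib.pullTensorBiIso f).app A).app B

/-- Restriction to an open of a pullback. -/
noncomputable def restrictPull {Y Z W : Scheme.{u}} (O : Y.Opens) (f : Y ⟶ Z) (l : (O : Scheme.{u}) ⟶ W) (g : W ⟶ Z)
    (h : l ≫ g = O.ι ≫ f) (M : Z.Modules) :
    (Scheme.Modules.pullback O.ι).obj ((Scheme.Modules.pullback f).obj M) ≅
      (Scheme.Modules.pullback l).obj ((Scheme.Modules.pullback g).obj M) :=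
  (Scheme.Modules.pullbackComp O.ι f).app M ≪≫ (Scheme.Modules.pullbackCongr h.symm).app M ≪≫
    ((Scheme.Modules.pullbackComp l g).app M).symm

theorem isZero_Rpush_13 {S X Y T XY TX TY P3 : Scheme.{u}} {sX : X ⟶ S} {sY : Y ⟶ S} {sT : T ⟶ S}
    [IsAffine S] [CompactSpace X] [IsAffineHom (pullback.diagonal sX)]
    {p : XY ⟶ X} {q : XY ⟶ Y} (hXY : IsPullback p q sX sY)
    {tT : TX ⟶ T} {tX : TX ⟶ X} (hTX : IsPullback tT tX sT sX)
    {uT : TY ⟶ T} {uY : TY ⟶ Y} (hTY : IsPullback uT uY sT sY)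
    {a : P3 ⟶ TX} {b : P3 ⟶ XY} (hP : IsPullback a b tX p)
    [HasInjectiveResolutions XY.Modules] [HasInjectiveResolutions P3.Modules]
    (c : P3 ⟶ TY) (hc₁ : c ≫ uT = a ≫ tT) (hc₂ : c ≫ uY = b ≫ q)
    (K : XY.Modules) (hK : Coh.IsQCoh K)
    (hKa : ∀ M : X.Modules, Coh.IsQCoh M → ∀ n : ℕ, 0 < n →
      IsZero ((Coh.Rpush q n).obj (CohB1.tensorMod ((Scheme.Modules.pullback p).obj M) K)))
    (F : TX.Modules) (hF : Coh.IsQCoh F) (n : ℕ) (hn : 0 < n) :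
    IsZero ((Coh.Rpush c n).obj
      (CohB1.tensorMod ((Scheme.Modules.pullback a).obj F) ((Scheme.Modules.pullback b).obj K))) := by
  haveI : QuasiCompact sX := inferInstance
  haveI : QuasiSeparated sX := ⟨inferInstance⟩
  haveI : QuasiCompact q := MorphismProperty.of_isPullback hXY inferInstance
  haveI : QuasiSeparated q := MorphismProperty.of_isPullback hXY inferInstance
  have hcP : IsPullback c b uY q :=
    IsPullback.of_right (by rw [hc₁, ← hXY.w]; exact (hP.flip.paste_vert hTX.flip).flip) hc₂ hTY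
  haveI : QuasiCompact c := MorphismProperty.of_isPullback hcP.flip inferInstance
  haveI : QuasiSeparated c := MorphismProperty.of_isPullback hcP.flip inferInstance
  have hFa : Coh.IsQCoh ((Scheme.Modules.pullback a).obj F) := QCoh.isQCoh_pullback a hF
  have hKb : Coh.IsQCoh ((Scheme.Modules.pullback b).obj K) := QCoh.isQCoh_pullback b hK
  have hN := KFlatLib.isQCoh_tensor hFa hKb
  let ι := T.affineOpens × Y.affineOpens
  let W : ι → TY.Opens := fun i => uT ⁻¹ᵁ i.1.1 ⊓ uY ⁻¹ᵁ i.2.1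
  have haff : ∀ i, IsAffineOpen (W i) := fun i => by
    obtain ⟨l, r, -, -, h⟩ := isPullback_opens hTY i.1.1 i.2.1 _ rfl
    haveI : IsAffine (i.1.1 : Scheme.{u}) := i.1.2
    haveI : IsAffine (i.2.1 : Scheme.{u}) := i.2.2
    haveI : IsAffineHom r := MorphismProperty.of_isPullback h inferInstance
    exact isAffine_of_isAffineHom r
  refine QCoh.isZero_of_cover (QCoh.isQCoh_Rpush c hN n) W haff (fun y => ?_) fun i => ?_
  · obtain ⟨_, ⟨T₀, hT₀, rfl⟩, hy₁, -⟩ := T.isBasis_affineOpens.exists_subset_of_mem_open (Set.mem_univ (uT y)) isOpen_univ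
    obtain ⟨_, ⟨Y₀, hY₀, rfl⟩, hy₂, -⟩ := Y.isBasis_affineOpens.exists_subset_of_mem_open (Set.mem_univ (uY y)) isOpen_univ
    exact ⟨⟨⟨T₀, hT₀⟩, ⟨Y₀, hY₀⟩⟩, hy₁, hy₂⟩
  obtain ⟨⟨T₀, hT₀⟩, ⟨Y₀, hY₀⟩⟩ := i
  letI := QCoh.modHH (QCoh.rhoV c (W ⟨⟨T₀, hT₀⟩, ⟨Y₀, hY₀⟩⟩))
    ((CohB1.tensorMod ((Scheme.Modules.pullback a).obj F) ((Scheme.Modules.pullback b).obj K)).restrict
      (c ⁻¹ᵁ W ⟨⟨T₀, hT₀⟩, ⟨Y₀, hY₀⟩⟩).ι) n
  obtain ⟨e⟩ := QCoh.nonempty_sections_HH (f := c) hN (haff ⟨⟨T₀, hT₀⟩, ⟨Y₀, hY₀⟩⟩) n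
  suffices h : Subsingleton (Coh.HH _ ((CohB1.tensorMod ((Scheme.Modules.pullback a).obj F)
      ((Scheme.Modules.pullback b).obj K)).restrict (c ⁻¹ᵁ W ⟨⟨T₀, hT₀⟩, ⟨Y₀, hY₀⟩⟩).ι) n) from (letI := h; @Equiv.subsingleton _ _ e.toEquiv h)
  let O : P3.Opens := c ⁻¹ᵁ W ⟨⟨T₀, hT₀⟩, ⟨Y₀, hY₀⟩⟩
  have hO : O = a ⁻¹ᵁ (tT ⁻¹ᵁ T₀) ⊓ b ⁻¹ᵁ (q ⁻¹ᵁ Y₀) := by
    show c ⁻¹ᵁ (uT ⁻¹ᵁ T₀ ⊓ uY ⁻¹ᵁ Y₀) = _
    rw [Scheme.Hom.preimage_inf, ← Scheme.Hom.comp_preimage, ← Scheme.Hom.comp_preimage, hc₁, hc₂]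
    rfl
  obtain ⟨l, g, el, eg, hsq⟩ := isPullback_opens hP (tT ⁻¹ᵁ T₀) (q ⁻¹ᵁ Y₀) O hO
  obtain ⟨la, lb, ela, elb, hA⟩ := isPullback_opens hTX T₀ ⊤ (tT ⁻¹ᵁ T₀) (by simp)
  haveI : IsAffine (T₀ : Scheme.{u}) := hT₀
  haveI : IsAffineHom lb := MorphismProperty.of_isPullback hA inferInstance
  let f := (tT ⁻¹ᵁ T₀).ι ≫ tX
  haveI : IsAffineHom f := by
    show IsAffineHom ((tT ⁻¹ᵁ T₀).ι ≫ tX)
    rw [← elb]
    haveI : IsIso (⊤ : X.Opens).ι := inferInstanceAs (IsIso X.topIso.hom)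
    infer_instance
  let O' : XY.Opens := q ⁻¹ᵁ Y₀
  let p' := O'.ι ≫ p
  haveI : IsAffineHom g := MorphismProperty.of_isPullback hsq inferInstance
  let F₀ := (Scheme.Modules.pullback (tT ⁻¹ᵁ T₀).ι).obj F
  let K' := (Scheme.Modules.pullback O'.ι).obj K
  let M := (Scheme.Modules.pushforward f).obj F₀
  have hF₀ : Coh.IsQCoh F₀ := QCoh.isQCoh_pullback _ hF
  have hM : Coh.IsQCoh M := QCoh.isQCoh_pushforward f hF₀
  have hK' : Coh.IsQCoh K' := QCoh.isQCoh_pullback _ hK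
  have hA' : Coh.IsQCoh ((Scheme.Modules.pullback l).obj F₀) := QCoh.isQCoh_pullback l hF₀
  let N₀ := (DCoh.tensorBi.obj ((Scheme.Modules.pullback l).obj F₀)).obj ((Scheme.Modules.pullback g).obj K')
  let e₁ : (CohB1.tensorMod ((Scheme.Modules.pullback a).obj F) ((Scheme.Modules.pullback b).obj K)).restrict O.ι ≅ N₀ :=
    (Scheme.Modules.restrictFunctorIsoPullback O.ι).app _ ≪≫
      pullTen O.ι ((Scheme.Modules.pullback a).obj F) ((Scheme.Modules.pullback b).obj K) ≪≫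
      (DCoh.tensorBi.mapIso (restrictPull O a l _ el F)).app _ ≪≫
      (DCoh.tensorBi.obj _).mapIso (restrictPull O b g _ eg K)
  refine QCoh.subsingleton_HH_of_iso e₁.symm n ?_
  obtain ⟨e₂⟩ := QCoh.HH_push_of_isAffineHom g (KFlatLib.isQCoh_tensor hA' (QCoh.isQCoh_pullback g hK')) n
  haveI := isIso_projMod g hA' hK'
  haveI := isIso_bcNat f hsq F₀ hF₀
  let P₀ := CohB1.tensorMod ((Scheme.Modules.pullback p).obj M) K
  let e₃ : P₀.restrict O'.ι ≅ (Coh.push g).obj N₀ :=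
    (Scheme.Modules.restrictFunctorIsoPullback O'.ι).app _ ≪≫
      pullTen O'.ι ((Scheme.Modules.pullback p).obj M) K ≪≫
      (DCoh.tensorBi.mapIso ((Scheme.Modules.pullbackComp O'.ι p).app M)).app _ ≪≫
      (DCoh.tensorBi.mapIso (asIso ((bcNat f hsq).app F₀))).app _ ≪≫
      asIso (KFlatLib.projMod g ((Scheme.Modules.pullback l).obj F₀) K')
  letI := QCoh.modHH (QCoh.rhoV q Y₀) (P₀.restrict O'.ι) n
  obtain ⟨e₄⟩ := QCoh.nonempty_sections_HH (f := q) (KFlatLib.isQCoh_tensor (QCoh.isQCoh_pullback p hM) hK) hY₀ n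
  haveI : Subsingleton Γ((Coh.Rpush q n).obj P₀, Y₀) := by
    refine subsingleton_of_forall_eq 0 fun x => ?_
    exact congr(($((IsZero.iff_id_eq_zero _).1 (hKa M hM n hn))).app Y₀ x)
  have h₅ : Subsingleton (Coh.HH _ (P₀.restrict O'.ι) n) := @Equiv.subsingleton _ _ e₄.toEquiv.symm ‹_›
  haveI := QCoh.subsingleton_HH_of_iso e₃ n h₅
  exact e₂.toEquiv.subsingleton

end Groth.Agent.FunMorK.Acyclic13
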