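import Groth.Agent.QCoh.Qcqs
import Groth.Agent.QCoh.Support
import Groth.Agent.QCoh.HHExact
import Groth.Agent.QCoh.Extension
import Groth.Agent.QCoh.Sections
import Groth.Agent.HilbPoly.Simple
import Mathlib.RingTheory.Ideal.AssociatedPrime.Finiteness
import Mathlib.RingTheory.Nakayama
import Mathlib.Algebra.Module.Torsion.Basic

/-!
# Acyclic coherent modules on schemes covered by affine basic opens

If `V` is covered by affine basic opens `D(g)`, `g ∈ I`, and the quasi-coherent module `K` is acyclic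
with Noetherian module of global sections `M`, then `I M = M`.
-/

set_option backward.isDefEq.respectTransparency false
set_option backward.isDefEq.respectTransparency.types false
set_option linter.style.haveILetI false

universe u

open CategoryTheory CategoryTheory.Limits AlgebraicGeometry TopologicalSpace Opposite
open CategoryTheory.Abelian

noncomputable section

namespace Groth.Agent.FunMorK.AcyclicFinite

open Groth.Agent

/-- An ideal killing no nonzero element of a Noetherian module contains a regular element. -/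
theorem exists_mem_injective {R M : Type u} [CommRing R] [AddCommGroup M] [Module R M]
    [IsNoetherian R M] [Nontrivial M] (J : Ideal R)
    (hJ : ∀ s : M, (∀ a ∈ J, a • s = 0) → s = 0) :
    ∃ a ∈ J, ∀ x : M, a • x = 0 → x = 0 := by
  classical
  let R' := R ⧸ Module.annihilator R M
  obtain ⟨F, hF⟩ := (IsNoetherian.noetherian (⊤ : Submodule R M))
  let l : R →ₗ[R] (F → M) := LinearMap.pi fun i => LinearMap.toSpanSingleton R M i.1
  have hl : LinearMap.ker l = Module.annihilator R M := by
    ext r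
    simp only [LinearMap.mem_ker, funext_iff, Module.mem_annihilator]
    refine ⟨fun h x => ?_, fun h i => h _⟩
    have hx : x ∈ Submodule.span R (F : Set M) := hF ▸ Submodule.mem_top
    induction hx using Submodule.span_induction with
    | mem x hx => exact h ⟨x, hx⟩
    | zero => exact smul_zero r
    | add x y _ _ hx hy => rw [smul_add, hx, hy, add_zero]
    | smul c x _ hx => rw [smul_comm, hx, smul_zero]
  haveI : IsNoetherian R R' :=
    isNoetherian_of_linearEquiv ((Submodule.quotEquivOfEq _ _ hl.symm).trans l.quotKerEquivRange).symm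
  haveI : IsNoetherianRing R' := isNoetherian_of_tower R (inferInstanceAs (IsNoetherian R R'))
  letI : Module R' M := Module.quotientAnnihilator
  haveI : IsScalarTower R R' M := (Module.isTorsionBySet_annihilator R M).isScalarTower
  haveI : Module.Finite R' M := Module.Finite.of_restrictScalars_finite R R' M
  by_contra hcon
  push_neg at hcon
  let q : R →+* R' := Ideal.Quotient.mk _
  have hsub : ((J.map q : Ideal R') : Set R') ⊆ ⋃ p ∈ associatedPrimes R' M, (p : Set R') := by
    rw [biUnion_associatedPrimes_eq_zero_divisors]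
    intro r hr
    obtain ⟨a, ha, rfl⟩ := (Ideal.mem_map_iff_of_surjective q Ideal.Quotient.mk_surjective).1 hr
    obtain ⟨x, hx, hx0⟩ := hcon a ha
    exact ⟨x, hx0, hx⟩
  obtain ⟨P, hP, hJP⟩ := (Ideal.subset_union_prime_finite (associatedPrimes.finite R' M) (f := id) 0 0
    fun _ h _ _ => h.isPrime).1 hsub
  obtain ⟨hprime, x, hx⟩ := isAssociatedPrime_iff.1 hP
  refine hprime.ne_top ((Ideal.eq_top_iff_one _).2 ?_)
  have hx0 : x = 0 := hJ x fun a ha => by
    have := hJP (Ideal.mem_map_of_mem q ha)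
    rw [id, hx, Submodule.mem_colon_singleton, Submodule.mem_bot] at this
    exact this
  rw [hx, hx0, Submodule.mem_colon_singleton, smul_zero]
  exact Submodule.zero_mem _

variable {V : Scheme.{u}} {B : Type u} [CommRing B] (ψ : B →+* Γ(V, ⊤))

/-- Global sections with scalars through `ψ`. -/
@[nolint unusedArguments]
def SecB (_ψ : B →+* Γ(V, ⊤)) (K : V.Modules) : Type u := Γ(K, ⊤)

instance (K : V.Modules) : AddCommGroup (SecB ψ K) := inferInstanceAs (AddCommGroup Γ(K, ⊤))

instance (K : V.Modules) : Module B (SecB ψ K) :=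
  fast_instance% Module.compHom Γ(K, ⊤) ψ

theorem secB_smul {K : V.Modules} (b : B) (m : SecB ψ K) :
    b • m = (show SecB ψ K from ψ b • (show Γ(K, ⊤) from m)) := rfl

/-- A morphism on global sections. -/
def secMap {K Q : V.Modules} (φ : K ⟶ Q) : SecB ψ K →ₗ[B] SecB ψ Q where
  toFun m := φ.app ⊤ m
  map_add' m m' := map_add (φ.app ⊤).hom m m'
  map_smul' b m := Scheme.Modules.Hom.app_smul φ (ψ b) m

variable {ψ}

/-- Short exact sequences: vanishing for the quotient. -/
theorem subsingleton_HH_X₃ {S : ShortComplex V.Modules} (hS : S.ShortExact) (n : ℕ)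
    (h₂ : Subsingleton (Coh.HH V S.X₂ n)) (h₁ : Subsingleton (Coh.HH V S.X₁ (n + 1))) :
    Subsingleton (Coh.HH V S.X₃ n) := by
  let T := S.map (QCoh.toAbFunctor V)
  have hT : T.ShortExact := QCoh.toAb_shortExact hS
  refine subsingleton_of_forall_eq 0 fun x => ?_
  obtain ⟨y, hy⟩ := Ext.covariant_sequence_exact₃ _ hT x rfl (h₁.elim _ _)
  rw [← hy, h₂.elim y 0]
  exact Ext.zero_comp _ _ _ _ _

theorem smulG_app_top (K : V.Modules) (a : Γ(V, ⊤)) (m : Γ(K, ⊤)) :
    (HilbPoly.smulG K a).app ⊤ m = a • m := by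
  rw [HilbPoly.smulG_app]
  congr 1
  rw [show (homOfLE (le_top : (⊤ : V.Opens) ≤ ⊤)) = 𝟙 _ from Subsingleton.elim _ _, op_id, V.presheaf.map_id]
  rfl

theorem isUnit_res_basicOpen (g : Γ(V, ⊤)) :
    IsUnit (V.presheaf.map (homOfLE (V.basicOpen_le g)).op g) :=
  RingedSpace.isUnit_res_basicOpen V.toRingedSpace g

variable [CompactSpace V] [QuasiSeparatedSpace V] (I : Ideal B)

/-- Sections over a basic open are global sections up to a unit. -/
theorem exists_res_eq {K : V.Modules} (hK : Coh.IsQCoh K) (g : Γ(V, ⊤)) (x : Γ(K, V.basicOpen g)) :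
    ∃ (c : Γ(V, V.basicOpen g)) (t : Γ(K, ⊤)), IsUnit c ∧
      K.presheaf.map (homOfLE (V.basicOpen_le g)).op t = c • x := by
  obtain ⟨n, t, ht⟩ := QCoh.exists_pow_smul_eq_map_of_isQuasiSeparated hK (W := (⊤ : V.Opens))
    CompactSpace.isCompact_univ isQuasiSeparated_univ g x
  exact ⟨_, t, (isUnit_res_basicOpen g).pow n, ht⟩

/-- A regular element of the global sections is regular. -/
theorem mono_smulG {K : V.Modules} (hK : Coh.IsQCoh K) (a : Γ(V, ⊤))
    (hreg : ∀ x : Γ(K, ⊤), a • x = 0 → x = 0)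
    (hcov : ∀ x : V, ∃ g ∈ I, x ∈ V.basicOpen (ψ g)) (haff : ∀ g ∈ I, IsAffineOpen (V.basicOpen (ψ g))) :
    Mono (HilbPoly.smulG K a) := by
  refine Preadditive.mono_of_kernel_zero ?_
  refine IsZero.eq_of_src (QCoh.isZero_of_cover (QCoh.isQCoh_kernel hK hK _)
    (fun g : I => V.basicOpen (ψ g.1)) (fun g => haff g.1 g.2)
    (fun x => by obtain ⟨g, hg, hx⟩ := hcov x; exact ⟨⟨g, hg⟩, hx⟩) fun g => ?_) _ _
  refine subsingleton_of_forall_eq 0 fun x => ?_
  obtain ⟨c, t, hc, ht⟩ := exists_res_eq (QCoh.isQCoh_kernel hK hK _) (ψ g.1) x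
  have ht0 : t = 0 := by
    refine QCoh.app_injective (kernel.ι (HilbPoly.smulG K a)) ⊤ ?_
    rw [map_zero]
    refine hreg _ ((smulG_app_top K a _).symm.trans ?_)
    exact congrArg (fun φ => Scheme.Modules.Hom.app φ ⊤ t) (kernel.condition (HilbPoly.smulG K a))
  rw [ht0, map_zero] at ht
  exact hc.smul_eq_zero.1 ht.symm

/-- The main statement, by Noetherian induction on quotients of the global sections. -/
theorem smul_top_eq_top {K : V.Modules} (hK : Coh.IsQCoh K)
    (hvan : ∀ q : ℕ, 0 < q → Subsingleton (Coh.HH V K q)) [IsNoetherian B (SecB ψ K)]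
    (hcov : ∀ x : V, ∃ g ∈ I, x ∈ V.basicOpen (ψ g)) (haff : ∀ g ∈ I, IsAffineOpen (V.basicOpen (ψ g))) :
    I • (⊤ : Submodule B (SecB ψ K)) = ⊤ := by
  suffices key : ∀ N : Submodule B (SecB ψ K), ∀ G : V.Modules, Coh.IsQCoh G →
      (∀ q : ℕ, 0 < q → Subsingleton (Coh.HH V G q)) →
      ∀ π : SecB ψ K →ₗ[B] SecB ψ G, Function.Surjective π → LinearMap.ker π = N →
        I • (⊤ : Submodule B (SecB ψ G)) = ⊤ from
    key ⊥ K hK hvan LinearMap.id Function.surjective_id LinearMap.ker_id
  intro N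
  induction N using WellFoundedGT.induction with
  | _ N ih =>
    intro G hG hvG π hπ hker
    rcases subsingleton_or_nontrivial (SecB ψ G) with h | h
    · exact Subsingleton.elim _ _
    haveI : IsNoetherian B (SecB ψ G) := isNoetherian_of_surjective π (LinearMap.range_eq_top.2 hπ)
    obtain ⟨a, ha, hreg⟩ := exists_mem_injective (M := SecB ψ G) I fun s hs => by
      refine QCoh.eq_zero_of_locally (M := G) ⊤ s fun p _ => ?_
      obtain ⟨g, hg, hp⟩ := hcov p
      exact ⟨_, homOfLE (V.basicOpen_le (ψ g)), hp,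
        QCoh.res_eq_zero_of_smul_eq_zero (M := G) _ (ψ g) le_rfl s (hs g hg)⟩
    let φ := HilbPoly.smulG G (ψ a)
    haveI : Mono φ := mono_smulG (ψ := ψ) I hG (ψ a) hreg hcov haff
    let S : ShortComplex V.Modules := ShortComplex.mk φ (cokernel.π φ) (cokernel.condition _)
    have hS : S.ShortExact :=
      { exact := ShortComplex.exact_of_g_is_cokernel _ (cokernelIsCokernel _) }
    let p := secMap ψ (cokernel.π φ)
    have hp : Function.Surjective p := QCoh.app_top_surjective_of_HH_one hS (hvG 1 one_pos)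
    have hkp : ∀ s, p s = 0 → ∃ y, a • y = s := fun s hs => by
      obtain ⟨y, hy⟩ := QCoh.exists_app_f_eq hS ⊤ s hs
      exact ⟨y, (smulG_app_top G (ψ a) y).symm.trans hy⟩
    have hpa : ∀ y, p (a • y) = 0 := fun y => by
      refine Eq.trans ?_ (QCoh.app_g_f (S := S) ⊤ y)
      exact congrArg _ (smulG_app_top G (ψ a) y).symm
    have hlt : N < LinearMap.ker (p ∘ₗ π) := by
      obtain ⟨y, hy⟩ := exists_ne (0 : SecB ψ G)
      refine lt_of_le_of_ne (fun x hx => ?_) fun e => ?_
      · rw [← hker, LinearMap.mem_ker] at hx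
        simp [hx]
      · obtain ⟨x, hx⟩ := hπ (a • y)
        have : x ∈ N := e ▸ (by simp [hx, hpa] : x ∈ LinearMap.ker (p ∘ₗ π))
        rw [← hker, LinearMap.mem_ker, hx] at this
        exact hy (hreg y this)
    have hQ := ih _ hlt (cokernel φ) (QCoh.isQCoh_cokernel hG hG φ)
      (fun q hq => subsingleton_HH_X₃ hS q (hvG q hq) (hvG (q + 1) q.succ_pos)) (p ∘ₗ π) (hp.comp hπ) rfl
    refine eq_top_iff.2 fun s _ => ?_
    have hmap : Submodule.map p (I • (⊤ : Submodule B (SecB ψ G))) = ⊤ := by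
      rw [Submodule.map_smul'', Submodule.map_top, LinearMap.range_eq_top.2 hp, hQ]
    obtain ⟨s', hs', e⟩ := Submodule.mem_map.1 (hmap ▸ (Submodule.mem_top : p s ∈ ⊤))
    obtain ⟨y, hy⟩ := hkp (s - s') (by rw [map_sub, e, sub_self])
    rw [← sub_add_cancel s s', ← hy]
    exact add_mem (Submodule.smul_mem_smul ha Submodule.mem_top) hs'

/-- A function killing the global sections of `K` vanishes on its support. -/
theorem notMem_basicOpen_of_smul_eq_zero {K : V.Modules} (hK : Coh.IsQCoh K)
    (hcov : ∀ x : V, ∃ g ∈ I, x ∈ V.basicOpen (ψ g)) (haff : ∀ g ∈ I, IsAffineOpen (V.basicOpen (ψ g)))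
    (r : Γ(V, ⊤)) (hr : ∀ t : Γ(K, ⊤), r • t = 0) {x : V} (hx : x ∈ CohB1.support K) :
    x ∉ V.basicOpen r := by
  intro hxr
  obtain ⟨g, hg, hxg⟩ := hcov x
  refine hx ((QCoh.subsingleton_stalk_iff hK (haff g hg) hxg).2 fun m => ?_)
  obtain ⟨c, t, hc, ht⟩ := exists_res_eq hK (ψ g) m
  refine ⟨V.presheaf.map (homOfLE (V.basicOpen_le (ψ g))).op r, ?_, ?_⟩
  · rw [Scheme.basicOpen_res]
    exact ⟨hxg, hxr⟩
  · refine hc.smul_eq_zero.1 ?_
    rw [smul_comm, ← ht, ← Scheme.Modules.map_smul, hr, map_zero]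

end Groth.Agent.FunMorK.AcyclicFinite
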