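import Groth.Agent.KFlatLib.Scheme.RelTensor
import Groth.Agent.KFlatLib.Scheme.Tensor
import Groth.Agent.KFlatLib.Scheme.AffinePush
import Groth.Agent.KFlatLib.Scheme.PushCoprod
import Groth.Agent.KFlatLib.Scheme.QCohTensor
import Groth.Agent.H9Misc.AmplePush
import Groth.Agent.QCohAb.Basic
import Groth.Agent.QCoh.Pullback
import Groth.Agent.EtFound.EdgeVanish

/-! Exactness of the functor attached to a kernel. -/

set_option autoImplicit false
set_option linter.style.haveILetI false
set_option backward.isDefEq.respectTransparency false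
set_option backward.isDefEq.respectTransparency.types false
set_option maxHeartbeats 1000000

universe u

open CategoryTheory CategoryTheory.Limits AlgebraicGeometry

namespace Groth.Agent.FunMorK

variable {X P Y : Scheme.{u}} (p : P ⟶ X) (q : P ⟶ Y) (K : P.Modules)

/-- Pullback followed by the twist by the kernel. -/
noncomputable abbrev pre : QCohCat.QCoh X ⥤ P.Modules :=
  ObjectProperty.ι (QCohCat.isQCoh X) ⋙ Scheme.Modules.pullback p ⋙ DCoh.tensorRightMod K

/-- Pull and twist, as the tensor bifunctor. -/
noncomputable def preIso : pre p K ≅ ObjectProperty.ι (QCohCat.isQCoh X) ⋙ KFlatLib.tensorPull p K :=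
  Functor.isoWhiskerLeft _ (Functor.isoWhiskerLeft _
    (H9Misc.AmplePush.tensorRightIso K ≪≫ (KFlatLib.tensorBiFlipIso P).app K))

instance preservesColimits_pre : PreservesColimitsOfSize.{u, u} (pre p K) where
  preservesColimitsOfShape {J} _ := by
    haveI : PreservesColimitsOfShape J (Scheme.Modules.pullback p) :=
      (Scheme.Modules.pullbackPushforwardAdjunction p).leftAdjoint_preservesColimits.preservesColimitsOfShape
    exact preservesColimitsOfShape_of_natIso (preIso p K).symm

instance preservesFiniteColimits_pre : PreservesFiniteColimits (pre p K) := by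
  haveI : PreservesColimitsOfSize.{0, 0} (pre p K) := preservesColimitsOfSize_shrink.{0, u, 0, u} _
  infer_instance

variable {p K}

theorem isQCoh_pre (hK : Coh.IsQCoh K) (M : QCohCat.QCoh X) : Coh.IsQCoh ((pre p K).obj M) :=
  (QCoh.isQCoh_iff_iso ((H9Misc.AmplePush.tensorRightIso K).app _)).2
    (KFlatLib.isQCoh_tensor (QCoh.isQCoh_pullback p M.2) hK)

theorem preservesFiniteLimits_pre (hKf : FlatMod.IsFlatOver p K) : PreservesFiniteLimits (pre p K) := by
  haveI : PreservesFiniteBiproducts (KFlatLib.tensorPull p K) := inferInstance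
  haveI := KFlatLib.preservesHomology_tensorPull p hKf
  haveI : PreservesFiniteLimits (KFlatLib.tensorPull p K) :=
    Functor.preservesFiniteLimits_of_preservesHomology _
  exact preservesFiniteLimits_of_natIso (preIso p K).symm

theorem epi_push_of_isAffineHom [IsAffineHom q] {A B : P.Modules} (g : A ⟶ B) [Epi g]
    (hA : Coh.IsQCoh A) (hB : Coh.IsQCoh B) : Epi ((Scheme.Modules.pushforward q).map g) := by
  refine Preadditive.epi_of_cancel_zero _ fun {N} t ht => KFlatLib.eq_zero_of_secObj t fun V hV s => ?_
  let S : ShortComplex P.Modules := ShortComplex.mk g (0 : B ⟶ B) comp_zero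
  obtain ⟨y, hy⟩ := KFlatLib.exists_secLift_exact (S := S) ((ShortComplex.exact_iff_epi S rfl).2 ‹_›)
    hA hB (hV.preimage q) (KFlatLib.secPushEquiv q V B s) comp_zero
  have h : s = (KFlatLib.secPushEquiv q V A).symm y ≫ (Scheme.Modules.pushforward q).map g := by
    refine (KFlatLib.secPushEquiv q V B).injective ?_
    rw [KFlatLib.secPushEquiv_naturality, Equiv.apply_symm_apply]
    exact hy.symm
  rw [h, Category.assoc, ht, comp_zero]

instance preservesFiniteLimits_push (f : P ⟶ Y) : PreservesFiniteLimits (Scheme.Modules.pushforward f) :=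
  QCoh.preservesFiniteLimits_push f

theorem map_exact_of_epi {A B : Type*} [Category* A] [Category* B] [Abelian A] [Abelian B] (R : A ⥤ B) [R.Additive]
    [PreservesFiniteLimits R] {S : ShortComplex A}
    (h : Epi (R.map (kernel.lift S.g S.f S.zero))) : (S.map R).Exact := by
  rw [ShortComplex.exact_iff_epi_kernel_lift]
  have : kernel.lift (S.map R).g (S.map R).f (S.map R).zero =
      R.map (kernel.lift S.g S.f S.zero) ≫ (PreservesKernel.iso R S.g).hom := by
    rw [← cancel_mono (kernel.ι (S.map R).g)]
    simp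
    exact (kernel.lift_ι _ _ _).symm
  rw [this]
  infer_instance

theorem preservesFiniteColimits_comp_affine [IsAffineHom q] (hK : Coh.IsQCoh K) :
    PreservesFiniteColimits (pre p K ⋙ Scheme.Modules.pushforward q) := by
  haveI : (pre p K).Additive := inferInstance
  refine Functor.preservesFiniteColimits_iff_forall_exact_map_and_epi _ |>.2 fun S hS => ?_
  obtain ⟨hex, hepi⟩ := Functor.preservesFiniteColimits_iff_forall_exact_map_and_epi (pre p K) |>.1
    inferInstance S hS
  haveI := hepi
  have hq := fun M => isQCoh_pre (p := p) hK M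
  refine ⟨map_exact_of_epi (S := S.map (pre p K)) (Scheme.Modules.pushforward q) ?_, epi_push_of_isAffineHom q _ (hq _) (hq _)⟩
  haveI := hex.epi_kernelLift
  exact epi_push_of_isAffineHom q _ (hq _) (QCoh.isQCoh_kernel (hq _) (hq _) _)

theorem epi_push_of_isZero_Rpush [HasInjectiveResolutions P.Modules] {S : ShortComplex P.Modules} (hS : S.ShortExact)
    (h : IsZero ((Coh.Rpush q 1).obj S.X₁)) : Epi ((Scheme.Modules.pushforward q).map S.g) := by
  haveI := SpObjSS.enoughInjectives_of_hasInjectiveResolutions (C := P.Modules)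
  let R := Scheme.Modules.pushforward q
  haveI : Epi ((R.rightDerived 0).map S.g) :=
    ((SESResLib.derivedLES R).exact₃ S hS 0 1 rfl).epi_f (h.eq_of_tgt _ _)
  haveI : Epi (R.rightDerivedZeroIsoSelf.hom.app S.X₂ ≫ R.map S.g) := by
    rw [← R.rightDerivedZeroIsoSelf.hom.naturality]; infer_instance
  exact epi_of_epi (R.rightDerivedZeroIsoSelf.hom.app S.X₂) _

theorem exact_comp_flat [HasInjectiveResolutions P.Modules] (hKf : FlatMod.IsFlatOver p K)
    (hKa : ∀ M : QCohCat.QCoh X, IsZero ((Coh.Rpush q 1).obj ((pre p K).obj M))) :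
    PreservesFiniteLimits (pre p K ⋙ Scheme.Modules.pushforward q) ∧
      PreservesFiniteColimits (pre p K ⋙ Scheme.Modules.pushforward q) := by
  haveI := preservesFiniteLimits_pre (p := p) hKf
  haveI : (pre p K).Additive := inferInstance
  refine ⟨inferInstance, Functor.preservesFiniteColimits_iff_forall_exact_map_and_epi _ |>.2 fun S hS => ?_⟩
  have hT := hS.map_of_exact (pre p K)
  haveI : Epi ((Scheme.Modules.pushforward q).map (S.map (pre p K)).g) := epi_push_of_isZero_Rpush q hT (hKa _)
  haveI := hT.mono_f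
  exact ⟨hT.exact.map_of_mono_of_preservesKernel (Scheme.Modules.pushforward q) inferInstance inferInstance, ‹_›⟩

theorem preservesCoproducts_comp [QuasiCompact q] (J : Type u) :
    PreservesColimitsOfShape (Discrete J) (pre p K ⋙ Scheme.Modules.pushforward q) := by
  haveI := KFlatLib.preservesColimitsOfShape_push_discrete (J := J) q
  infer_instance

/-- Reassociating the composite. -/
noncomputable def compIso : pre p K ⋙ Scheme.Modules.pushforward q ≅
    ObjectProperty.ι (QCohCat.isQCoh X) ⋙ Scheme.Modules.pullback p ⋙ DCoh.tensorRightMod K ⋙ Coh.push q :=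
  Functor.associator _ _ _ ≪≫ Functor.isoWhiskerLeft _ (Functor.associator _ _ _)

theorem main_affine [IsAffineHom q] (hK : Coh.IsQCoh K) :
    PreservesFiniteColimits (ObjectProperty.ι (QCohCat.isQCoh X) ⋙ Scheme.Modules.pullback p ⋙ DCoh.tensorRightMod K ⋙ Coh.push q) ∧
      ∀ J : Type u, PreservesColimitsOfShape (Discrete J) (ObjectProperty.ι (QCohCat.isQCoh X) ⋙ Scheme.Modules.pullback p ⋙ DCoh.tensorRightMod K ⋙ Coh.push q) := by
  haveI := preservesFiniteColimits_comp_affine (p := p) q hK
  exact ⟨preservesFiniteColimits_of_natIso (compIso q), fun J =>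
    haveI := preservesCoproducts_comp (p := p) (K := K) q J
    preservesColimitsOfShape_of_natIso (compIso q)⟩

theorem main_flat [QuasiCompact q] [HasInjectiveResolutions P.Modules] (hKf : FlatMod.IsFlatOver p K)
    (hKa : ∀ M : X.Modules, Coh.IsQCoh M → ∀ n : ℕ, 0 < n →
      IsZero ((Coh.Rpush q n).obj ((DCoh.tensorRightMod K).obj ((Scheme.Modules.pullback p).obj M)))) :
    PreservesFiniteLimits (ObjectProperty.ι (QCohCat.isQCoh X) ⋙ Scheme.Modules.pullback p ⋙ DCoh.tensorRightMod K ⋙ Coh.push q) ∧
    PreservesFiniteColimits (ObjectProperty.ι (QCohCat.isQCoh X) ⋙ Scheme.Modules.pullback p ⋙ DCoh.tensorRightMod K ⋙ Coh.push q) ∧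
      ∀ J : Type u, PreservesColimitsOfShape (Discrete J) (ObjectProperty.ι (QCohCat.isQCoh X) ⋙ Scheme.Modules.pullback p ⋙ DCoh.tensorRightMod K ⋙ Coh.push q) := by
  obtain ⟨h1, h2⟩ := exact_comp_flat (p := p) q hKf fun M => hKa M.obj M.2 1 one_pos
  exact ⟨preservesFiniteLimits_of_natIso (compIso q), preservesFiniteColimits_of_natIso (compIso q), fun J =>
    haveI := preservesCoproducts_comp (p := p) (K := K) q J
    preservesColimitsOfShape_of_natIso (compIso q)⟩

end Groth.Agent.FunMorK
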