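import Groth.Agent.KFlatLib.Scheme.ProjModule
import Groth.Agent.QCoh.TensorSections
import Groth.Agent.QCoh.PullbackBC
import Groth.Agent.QCoh.Qcqs
import Groth.Agent.QCoh.ClosedPush
import Groth.Agent.S12131
import Groth.Agent.H9Misc.AmplePush
import Groth.Prelude.Def_QCohCat
import Groth.Agent.KFlatLib.Scheme.TorBCTensorMap

/-! Projection formula and base change along affine morphisms, as natural transformations. -/

set_option autoImplicit false
set_option linter.style.haveILetI false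
set_option backward.isDefEq.respectTransparency false
set_option backward.isDefEq.respectTransparency.types false
set_option maxHeartbeats 1000000

universe u

open CategoryTheory CategoryTheory.Limits AlgebraicGeometry TopologicalSpace Opposite
open scoped TensorProduct

namespace Groth.Agent.FunMorK

variable {X Y : Scheme.{u}} (f : X ⟶ Y)

theorem app_projMod_tmS (M : X.Modules) (N : Y.Modules) {U : Y.Opens}
    (m : Γ((Scheme.Modules.pushforward f).obj M, U)) (n : Γ(N, U)) :
    (KFlatLib.projMod f M N).app U (QCoh.tmS ((Scheme.Modules.pushforward f).obj M) N m n) =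
      (show Γ((Scheme.Modules.pushforward f).obj
          ((DCoh.tensorBi.obj M).obj ((Scheme.Modules.pullback f).obj N)), U) from
        QCoh.tmS M ((Scheme.Modules.pullback f).obj N) (show Γ(M, f ⁻¹ᵁ U) from m) (KFlatLib.pb f n)) := by
  let adj := Scheme.Modules.pullbackPushforwardAdjunction f
  let M₀ := (Scheme.Modules.pushforward f).obj M
  have h0 : KFlatLib.projMod f M N =
      adj.unit.app _ ≫ (Scheme.Modules.pushforward f).map (KFlatLib.projPre f M N) := adj.homEquiv_unit _ _ _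
  let m' : (DCoh.toP.obj M₀).obj (op U) := m
  let n' : (DCoh.toP.obj N).obj (op U) := n
  have h1 : (DCoh.toP.map (KFlatLib.pullTensorHom f M₀ N)).app (op (f ⁻¹ᵁ U))
      (KFlatLib.pb f (KFlatLib.tmSh M₀ N m' n')) =
      KFlatLib.tmSh _ _ (KFlatLib.pb f m') (KFlatLib.pb f n') := KFlatLib.pullTensorHom_pb f M₀ N m' n'
  have h2 : (DCoh.toP.map (adj.counit.app M)).app (op (f ⁻¹ᵁ U)) (KFlatLib.pb f m') = m :=
    congrArg (fun t => (DCoh.toP.map t).app (op U) m') (adj.right_triangle_components M)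
  rw [h0]
  change (DCoh.toP.map ((DCoh.tensorBi.map (adj.counit.app M)).app _)).app (op (f ⁻¹ᵁ U))
    ((DCoh.toP.map (KFlatLib.pullTensorHom f M₀ N)).app (op (f ⁻¹ᵁ U))
      (KFlatLib.pb f (KFlatLib.tmSh M₀ N m' n'))) = _
  rw [h1]
  refine (KFlatLib.tmSh_naturality_left (adj.counit.app M) _ (KFlatLib.pb f m') (KFlatLib.pb f n')).trans ?_
  exact congrArg (fun a => KFlatLib.tmSh M _ a (KFlatLib.pb f n')) h2

theorem isIso_projMod [IsAffineHom f] {M : X.Modules} {N : Y.Modules} (hM : Coh.IsQCoh M) (hN : Coh.IsQCoh N) :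
    IsIso (KFlatLib.projMod f M N) := by
  refine QCoh.isIso_of_isBasis _ (B := {U | IsAffineOpen U}) Y.isBasis_affineOpens ?_
  intro U hU
  let M₀ := (Scheme.Modules.pushforward f).obj M
  let P := (Scheme.Modules.pullback f).obj N
  have hV : IsAffineOpen (f ⁻¹ᵁ U) := hU.preimage f
  have hl := QCoh.bijective_tmLin (QCoh.isQCoh_pushforward f hM) hN hU
  have hr := QCoh.bijective_tmLin hM (QCoh.isQCoh_pullback f hN) hV
  let φ := f.app U
  letI : Algebra Γ(Y, U) Γ(X, f ⁻¹ᵁ U) := φ.hom.toAlgebra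
  letI : Module Γ(Y, U) Γ(P, f ⁻¹ᵁ U) := Module.compHom _ φ.hom
  haveI : IsScalarTower Γ(Y, U) Γ(X, f ⁻¹ᵁ U) Γ(P, f ⁻¹ᵁ U) := .of_algebraMap_smul fun _ _ => rfl
  letI : Module Γ(X, f ⁻¹ᵁ U) Γ(M₀, U) := (inferInstance : Module Γ(X, f ⁻¹ᵁ U) Γ(M, f ⁻¹ᵁ U))
  haveI : IsScalarTower Γ(Y, U) Γ(X, f ⁻¹ᵁ U) Γ(M₀, U) := .of_algebraMap_smul fun _ _ => rfl
  let l : Γ(N, U) →ₗ[Γ(Y, U)] Γ(P, f ⁻¹ᵁ U) :=
    { toFun := QCoh.pullSec f N le_rfl
      map_add' := QCoh.pullSec_add f N le_rfl
      map_smul' := fun r x => (QCoh.pullSec_smul f N le_rfl r x).trans (by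
        rw [← Scheme.Hom.app_eq_appLE]; rfl) }
  have hb : IsBaseChange Γ(X, f ⁻¹ᵁ U) l := QCoh.isBaseChange_pullback hU f hV hN le_rfl
    (fun r => by rw [← Scheme.Hom.app_eq_appLE]; rfl) l fun _ => rfl
  have hpb : ∀ n : Γ(N, U), l n = KFlatLib.pb f n := fun n => by
    show QCoh.pullSec f N le_rfl n = _
    simp [QCoh.pullSec]
    rfl
  let e₁ : Γ(M₀, U) ⊗[Γ(Y, U)] Γ(N, U) ≃ₗ[Γ(X, f ⁻¹ᵁ U)] Γ(M₀, U) ⊗[Γ(X, f ⁻¹ᵁ U)] Γ(P, f ⁻¹ᵁ U) :=
    (TensorProduct.AlgebraTensorModule.cancelBaseChange Γ(Y, U) Γ(X, f ⁻¹ᵁ U) Γ(X, f ⁻¹ᵁ U)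
      Γ(M₀, U) Γ(N, U)).symm.trans (TensorProduct.congr (LinearEquiv.refl _ _) hb.equiv)
  have key : ∀ z, (KFlatLib.projMod f M N).app U (QCoh.tmLin M₀ N U z) =
      (show Γ((Scheme.Modules.pushforward f).obj ((DCoh.tensorBi.obj M).obj P), U) from
        QCoh.tmLin M P (f ⁻¹ᵁ U) (e₁ z)) := by
    intro z
    induction z using TensorProduct.induction_on with
    | zero => simp [e₁]; exact map_zero _
    | add a b ha hb' => rw [map_add, map_add, ha, hb', map_add, map_add]
    | tmul m n =>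
      rw [QCoh.tmLin_tmul, app_projMod_tmS]
      show _ = QCoh.tmLin M P (f ⁻¹ᵁ U) (m ⊗ₜ hb.equiv (1 ⊗ₜ n))
      rw [hb.equiv_tmul, one_smul, hpb]
      rfl
  have h2 : Function.Bijective ((KFlatLib.projMod f M N).app U ∘ QCoh.tmLin M₀ N U) := by
    rw [show (KFlatLib.projMod f M N).app U ∘ QCoh.tmLin M₀ N U = fun z =>
      (show Γ((Scheme.Modules.pushforward f).obj ((DCoh.tensorBi.obj M).obj P), U) from
        QCoh.tmLin M P (f ⁻¹ᵁ U) (e₁ z)) from funext key]
    exact hr.comp e₁.bijective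
  exact ⟨Function.Injective.of_comp_right h2.1 hl.2, Function.Surjective.of_comp h2.2⟩

variable {X' : Scheme.{u}} {Y' : Scheme.{u}} {g : Y' ⟶ Y} {g' : X' ⟶ X} {f' : X' ⟶ Y'}

/-- The base change transformation. -/
noncomputable def bcNat (h : IsPullback g' f' f g) :
    Scheme.Modules.pushforward f ⋙ Scheme.Modules.pullback g ⟶
      Scheme.Modules.pullback g' ⋙ Scheme.Modules.pushforward f' where
  app F := ((Scheme.Modules.pullbackPushforwardAdjunction g).homEquiv _ _).symm
    ((Scheme.Modules.pushforward f).map ((Scheme.Modules.pullbackPushforwardAdjunction g').unit.app F) ≫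
      (Scheme.Modules.pushforwardComp g' f).hom.app ((Scheme.Modules.pullback g').obj F) ≫
      (Scheme.Modules.pushforwardCongr h.w).hom.app ((Scheme.Modules.pullback g').obj F) ≫
      (Scheme.Modules.pushforwardComp f' g).inv.app ((Scheme.Modules.pullback g').obj F))
  naturality F G φ := by
    simp only [Functor.comp_map]
    rw [← Adjunction.homEquiv_naturality_left_symm, ← Adjunction.homEquiv_naturality_right_symm]
    congr 1
    let β := Functor.whiskerRight (Scheme.Modules.pullbackPushforwardAdjunction g').unit (Scheme.Modules.pushforward f) ≫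
      Functor.whiskerLeft (Scheme.Modules.pullback g') ((Scheme.Modules.pushforwardComp g' f).hom ≫
        (Scheme.Modules.pushforwardCongr h.w).hom ≫ (Scheme.Modules.pushforwardComp f' g).inv)
    exact β.naturality φ

theorem isIso_bcNat (h : IsPullback g' f' f g) [IsAffineHom f] (F : X.Modules) (hF : Coh.IsQCoh F) :
    IsIso ((bcNat f h).app F) := @S12131.result X Y X' Y' f g g' f' h _ F hF

/-- The projection transformation, natural in the module upstairs. -/
noncomputable def projNatT (K : Y.Modules) :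
    Scheme.Modules.pushforward f ⋙ DCoh.tensorBi.flip.obj K ⟶
      DCoh.tensorBi.flip.obj ((Scheme.Modules.pullback f).obj K) ⋙ Scheme.Modules.pushforward f where
  app M := KFlatLib.projMod f M K
  naturality _ _ g := KFlatLib.projMod_naturality_left f g K

/-- The twist is the flipped tensor bifunctor. -/
noncomputable def twistIso (K : Y.Modules) : DCoh.tensorRightMod K ≅ DCoh.tensorBi.flip.obj K :=
  H9Misc.AmplePush.tensorRightIso K

/-- A transformation invertible on quasi-coherent modules restricts to an isomorphism. -/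
noncomputable def qcohIso {D : Type*} [Category* D] {F G : X.Modules ⥤ D} (τ : F ⟶ G)
    (h : ∀ M : X.Modules, Coh.IsQCoh M → IsIso (τ.app M)) :
    ObjectProperty.ι (QCohCat.isQCoh X) ⋙ F ≅ ObjectProperty.ι (QCohCat.isQCoh X) ⋙ G :=
  NatIso.ofComponents (fun M => @asIso _ _ _ _ (τ.app M.obj) (h M.obj M.2)) fun g => τ.naturality g.hom

end Groth.Agent.FunMorK
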