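import Groth.Agent.FunMorK.Basic
import Groth.Agent.FunMorK.Proj
import Groth.Agent.FunMorK.Acyclic13
import Groth.Agent.QCoh.Devissage
import Groth.Agent.QCoh.Support
import Groth.Agent.KFlatLib.Scheme.PullTensorCx
import Groth.Agent.KFlatLib.Scheme.SecPoint

/-! The kernel of an exact functor is a quotient of a box product. -/

set_option autoImplicit false
set_option linter.style.haveILetI false
set_option backward.isDefEq.respectTransparency false
set_option backward.isDefEq.respectTransparency.types false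
set_option maxHeartbeats 1000000

universe u

open CategoryTheory CategoryTheory.Limits AlgebraicGeometry TopologicalSpace Opposite

namespace Groth.Agent.FunMorK

/-- Functions on an intersection of affine opens are sums of products. -/
theorem res_span_top {X S : Scheme.{u}} (s : X ⟶ S) [IsAffine S] [IsSeparated s] {U W : X.Opens}
    (hU : IsAffineOpen U) (hW : IsAffineOpen W) (z : Γ(X, U ⊓ W)) :
    z ∈ AddSubgroup.closure {w | ∃ (a : Γ(X, U)) (b : Γ(X, W)),
      w = X.presheaf.map (homOfLE inf_le_left).op a * X.presheaf.map (homOfLE inf_le_right).op b} := by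
  haveI : IsAffine (U : Scheme.{u}) := hU
  haveI : IsAffine (W : Scheme.{u}) := hW
  let Z := pullback (U.ι ≫ s) (W.ι ≫ s)
  haveI : IsAffineHom (W.ι ≫ s) := inferInstance
  haveI : IsAffine Z := IsAffine.of_isPullback (IsPullback.of_hasPullback (U.ι ≫ s) (W.ι ≫ s))
  let h := isPullback_opens_inf U W
  let δ : ((U ⊓ W : X.Opens) : Scheme.{u}) ⟶ Z := h.isoPullback.hom ≫ pullback.mapDesc U.ι W.ι s
  haveI : IsClosedImmersion δ := inferInstance
  have hsurj : Function.Surjective δ.appTop :=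
    (IsClosedImmersion.isAffine_surjective_of_isAffine δ).2
  have e₁ : δ ≫ pullback.fst _ _ = X.homOfLE inf_le_left := by simp [δ, Z]
  have e₂ : δ ≫ pullback.snd _ _ = X.homOfLE inf_le_right := by simp [δ, Z]
  have hpo := isPushout_appTop_of_isPullback (IsPullback.of_hasPullback (U.ι ≫ s) (W.ι ≫ s))
  let fa := (pullback.fst (U.ι ≫ s) (W.ι ≫ s)).appTop
  let fb := (pullback.snd (U.ι ≫ s) (W.ι ≫ s)).appTop
  let T : AddSubgroup Γ(Z, ⊤) := AddSubgroup.closure {w | ∃ a b, w = fa a * fb b}
  have hmul : ∀ x ∈ T, ∀ y ∈ T, x * y ∈ T := by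
    intro x hx y hy
    induction hx using AddSubgroup.closure_induction with
    | mem x hx =>
      obtain ⟨a, b, rfl⟩ := hx
      induction hy using AddSubgroup.closure_induction with
      | mem y hy =>
        obtain ⟨a', b', rfl⟩ := hy
        exact AddSubgroup.subset_closure ⟨a * a', b * b', by rw [map_mul, map_mul, mul_mul_mul_comm]⟩
      | zero => simp
      | add y y' _ _ h h' => rw [mul_add]; exact T.add_mem h h'
      | neg y _ h => rw [mul_neg]; exact T.neg_mem h
    | zero => simp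
    | add x x' _ _ h h' => rw [add_mul]; exact T.add_mem h h'
    | neg x _ h => rw [neg_mul]; exact T.neg_mem h
  have h1 : (1 : Γ(Z, ⊤)) ∈ T := AddSubgroup.subset_closure ⟨1, 1, by simp⟩
  let R : Subring Γ(Z, ⊤) := { T with one_mem' := h1, mul_mem' := fun hx hy => hmul _ hx _ hy }
  let ga : Γ((U : Scheme.{u}), ⊤) ⟶ CommRingCat.of R :=
    CommRingCat.ofHom (fa.hom.codRestrict R fun a => AddSubgroup.subset_closure ⟨a, 1, by simp⟩)
  let gb : Γ((W : Scheme.{u}), ⊤) ⟶ CommRingCat.of R :=
    CommRingCat.ofHom (fb.hom.codRestrict R fun b => AddSubgroup.subset_closure ⟨1, b, by simp⟩)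
  let inc : CommRingCat.of R ⟶ Γ(Z, ⊤) := CommRingCat.ofHom R.subtype
  have ha : ga ≫ inc = fa := rfl
  have hb : gb ≫ inc = fb := rfl
  have hw : (U.ι ≫ s).appTop ≫ ga = (W.ι ≫ s).appTop ≫ gb := by
    refine CommRingCat.hom_ext (RingHom.ext fun r => Subtype.ext ?_)
    exact ConcreteCategory.congr_hom hpo.w r
  let r := hpo.desc ga gb hw
  have hr : r ≫ inc = 𝟙 _ := by
    refine hpo.hom_ext ?_ ?_
    · rw [hpo.inl_desc_assoc, ha, Category.comp_id]
    · rw [hpo.inr_desc_assoc, hb, Category.comp_id]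
  have hall : ∀ y, y ∈ T := fun y => by
    have : (r y : R).1 = y := ConcreteCategory.congr_hom hr y
    rw [← this]
    exact (r y).2
  let c := (U ⊓ W : X.Opens).topIso.hom
  obtain ⟨w, hw'⟩ := (ConcreteCategory.bijective_of_isIso c).2 z
  obtain ⟨y, rfl⟩ := hsurj w
  subst hw'
  suffices ∀ y ∈ T, c (δ.appTop y) ∈ _ from this y (hall y)
  intro y hy
  induction hy using AddSubgroup.closure_induction with
  | mem y hy =>
    obtain ⟨a, b, rfl⟩ := hy
    refine AddSubgroup.subset_closure ⟨U.topIso.hom a, W.topIso.hom b, ?_⟩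
    rw [map_mul, map_mul]
    congr 1
    · show c ((fa ≫ δ.appTop) a) = _
      rw [← Scheme.Hom.comp_appTop, e₁]
      simp [c]
      rw [← ConcreteCategory.comp_apply, ← ConcreteCategory.comp_apply, ← Functor.map_comp, ← Functor.map_comp]
      rfl
    · show c ((fb ≫ δ.appTop) b) = _
      rw [← Scheme.Hom.comp_appTop, e₂]
      simp [c]
      rw [← ConcreteCategory.comp_apply, ← ConcreteCategory.comp_apply, ← Functor.map_comp, ← Functor.map_comp]
      rfl
  | zero => simp
  | add y y' _ _ h h' => rw [map_add, map_add]; exact AddSubgroup.add_mem _ h h'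
  | neg y _ h => rw [map_neg, map_neg]; exact AddSubgroup.neg_mem _ h

/-- A map of quasi-coherent modules which is surjective on an affine cover is epi. -/
theorem epi_of_cover {X : Scheme.{u}} {A B : X.Modules} (hA : Coh.IsQCoh A) (hB : Coh.IsQCoh B) (g : A ⟶ B)
    {ι : Type*} (O : ι → X.Opens) (haff : ∀ i, IsAffineOpen (O i)) (hO : ∀ x : X, ∃ i, x ∈ O i)
    (h : ∀ i, Function.Surjective (g.app (O i))) : Epi g := by
  have hC : Coh.IsQCoh (cokernel g) := QCoh.isQCoh_cokernel hA hB g
  refine Preadditive.epi_of_isZero_cokernel g (QCoh.isZero_of_cover hC O haff hO fun i => ?_)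
  refine ⟨fun a b => ?_⟩
  obtain ⟨a, rfl⟩ := QCoh.app_surjective_of_epi hB hC (cokernel.π g) (haff i) a
  obtain ⟨b, rfl⟩ := QCoh.app_surjective_of_epi hB hC (cokernel.π g) (haff i) b
  obtain ⟨a, rfl⟩ := h i a
  obtain ⟨b, rfl⟩ := h i b
  have hz : ∀ x, (cokernel.π g).app (O i) (g.app (O i) x) = 0 := fun x =>
    congr(($(cokernel.condition g)).app (O i) x)
  rw [hz, hz]

section

variable {X : Scheme.{u}} (U : X.Opens)

/-- The functions on an open, pushed forward. -/
noncomputable abbrev pushOne : X.Modules :=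
  (Scheme.Modules.pushforward U.ι).obj (Coh.structureModule (U : Scheme.{u}))

/-- All sections of the functions on an open. -/
noncomputable def genMap : (∐ fun _ : Γ(pushOne U, ⊤) => Coh.structureModule X) ⟶ pushOne U :=
  Sigma.desc fun m => QCoh.homOfTop m

theorem epi_genMap {S : Scheme.{u}} (s : X ⟶ S) [IsAffine S] [IsSeparated s] {V : X.Opens} (hV : IsAffineOpen V) :
    Epi (genMap V) := by
  haveI : IsAffineHom V.ι := ⟨fun W hW => (V.ι.isAffineOpen_iff_of_isOpenImmersion).1 (by
    rw [Scheme.Hom.image_preimage_eq_opensRange_inf, Scheme.Opens.opensRange_ι]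
    haveI : X.IsSeparated := ⟨by rw [← terminal.comp_from s]; infer_instance⟩
    exact hV.inf hW)⟩
  have hM : Coh.IsQCoh (pushOne V) := QCoh.isQCoh_pushforward V.ι QCoh.isQCoh_structureModule
  refine epi_of_cover (QCoh.isQCoh_colimit _ fun _ => QCoh.isQCoh_structureModule) hM (genMap V)
    (fun W : X.affineOpens => W.1) (fun W => W.2) (fun x => ?_) fun W t => ?_
  · obtain ⟨_, ⟨W, hW, rfl⟩, hx, -⟩ := X.isBasis_affineOpens.exists_subset_of_mem_open (Set.mem_univ x) isOpen_univ
    exact ⟨⟨W, hW⟩, hx⟩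
  have key : ∀ z : Γ(X, V.ι ''ᵁ (V.ι ⁻¹ᵁ W.1)),
      (show Γ(pushOne V, W.1) from z) ∈ ((genMap V).app W.1).hom.range := by
    intro z
    have he : V ⊓ W.1 = V.ι ''ᵁ (V.ι ⁻¹ᵁ W.1) := by
      rw [Scheme.Hom.image_preimage_eq_opensRange_inf, Scheme.Opens.opensRange_ι]
    let z' : Γ(X, V ⊓ W.1) := X.presheaf.map (eqToHom he).op z
    have hz : z = X.presheaf.map (eqToHom he.symm).op z' := by
      simp only [z']
      rw [← ConcreteCategory.comp_apply, ← Functor.map_comp, Subsingleton.elim ((eqToHom he).op ≫ _) (𝟙 _), CategoryTheory.Functor.map_id]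
      rfl
    rw [hz]
    generalize z' = w
    clear hz z' z
    have := res_span_top s hV W.2 w
    induction this using AddSubgroup.closure_induction with
    | mem w hw =>
      obtain ⟨a, b, rfl⟩ := hw
      let m : Γ(pushOne V, ⊤) := (show Γ(X, V.ι ''ᵁ (V.ι ⁻¹ᵁ ⊤)) from
        X.presheaf.map (eqToHom (by simp)).op a)
      refine ⟨(Sigma.ι (fun _ : Γ(pushOne V, ⊤) => Coh.structureModule X) m).app W.1 b, ?_⟩
      have h1 : (genMap V).app W.1 ((Sigma.ι (fun _ : Γ(pushOne V, ⊤) => Coh.structureModule X) m).app W.1 b) =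
          (QCoh.homOfTop m).app W.1 b :=
        congr(($(Sigma.ι_desc (fun m => QCoh.homOfTop m) m)).app W.1 b)
      refine h1.trans ((QCoh.homOfTop_app m b).trans ?_)
      show X.presheaf.map _ b * X.presheaf.map _ (X.presheaf.map _ a) = X.presheaf.map _ (_ * _)
      rw [map_mul, mul_comm]
      simp only [← ConcreteCategory.comp_apply, ← Functor.map_comp]
      congr 2
    | zero => exact ⟨0, (map_zero _).trans (map_zero _).symm⟩
    | add a b _ _ h h' => rw [map_add]; exact AddSubgroup.add_mem _ h h'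
    | neg a _ h => rw [map_neg]; exact AddSubgroup.neg_mem _ h
  exact key t

end

section

variable {X P : Scheme.{u}} (p : P ⟶ X)

/-- Pullback is injective on an open where the map is bijective. -/
theorem bijective_pullMap {M N : X.Modules} (u : M ⟶ N) (hM : Coh.IsQCoh M) (hN : Coh.IsQCoh N)
    {U : X.Opens} (hU : IsAffineOpen U) {O : P.Opens} (hO : IsAffineOpen O) (hle : O ≤ p ⁻¹ᵁ U)
    (hu : Function.Bijective (u.app U)) :
    Function.Bijective (((Scheme.Modules.pullback p).map u).app O) := by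
  letI : Algebra Γ(X, U) Γ(P, O) := (p.appLE U O hle).hom.toAlgebra
  let A := (Scheme.Modules.pullback p).obj M
  let B := (Scheme.Modules.pullback p).obj N
  letI : Module Γ(X, U) Γ(A, O) := Module.compHom _ (p.appLE U O hle).hom
  letI : Module Γ(X, U) Γ(B, O) := Module.compHom _ (p.appLE U O hle).hom
  haveI : IsScalarTower Γ(X, U) Γ(P, O) Γ(A, O) := .of_algebraMap_smul fun _ _ => rfl
  haveI : IsScalarTower Γ(X, U) Γ(P, O) Γ(B, O) := .of_algebraMap_smul fun _ _ => rfl
  let lA : Γ(M, U) →ₗ[Γ(X, U)] Γ(A, O) :=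
    { toFun := QCoh.pullSec p M hle
      map_add' := QCoh.pullSec_add p M hle
      map_smul' := QCoh.pullSec_smul p M hle }
  let lB : Γ(N, U) →ₗ[Γ(X, U)] Γ(B, O) :=
    { toFun := QCoh.pullSec p N hle
      map_add' := QCoh.pullSec_add p N hle
      map_smul' := QCoh.pullSec_smul p N hle }
  have hA := QCoh.isBaseChange_pullback hU p hO hM hle (fun _ => rfl) lA fun _ => rfl
  have hB := QCoh.isBaseChange_pullback hU p hO hN hle (fun _ => rfl) lB fun _ => rfl
  let uL : Γ(M, U) →ₗ[Γ(X, U)] Γ(N, U) :=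
    { toFun := u.app U, map_add' := map_add _, map_smul' := fun r x => Scheme.Modules.Hom.app_smul u r x }
  let u' := (LinearEquiv.ofBijective uL hu).baseChange Γ(X, U) Γ(P, O) Γ(M, U) Γ(N, U)
  let g := ((Scheme.Modules.pullback p).map u).app O
  have key : ∀ z, g (hA.equiv z) = hB.equiv (u' z) := by
    intro z
    induction z using TensorProduct.induction_on with
    | zero => rw [map_zero hA.equiv, map_zero u', map_zero hB.equiv]; exact map_zero g.hom
    | add a b ha hb => rw [map_add hA.equiv, map_add u', map_add hB.equiv]; exact (map_add g.hom _ _).trans (congrArg₂ _ ha hb)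
    | tmul r m =>
      have h1 : u' (r ⊗ₜ[Γ(X, U)] m) = r ⊗ₜ[Γ(X, U)] u.app U m := rfl
      rw [h1, hA.equiv_tmul, hB.equiv_tmul]
      refine (Scheme.Modules.Hom.app_smul ((Scheme.Modules.pullback p).map u) r _).trans ?_
      exact congrArg (r • ·) (KFlatLib.SecPoint.pullSec_map p hle u m).symm
  exact ⟨fun x y hxy => by
      obtain ⟨x, rfl⟩ := hA.equiv.surjective x
      obtain ⟨y, rfl⟩ := hA.equiv.surjective y
      exact congrArg _ (u'.injective (hB.equiv.injective ((key x).symm.trans (hxy.trans (key y))))),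
    fun y => ⟨hA.equiv (u'.symm (hB.equiv.symm y)), (key _).trans (by
      rw [LinearEquiv.apply_symm_apply, LinearEquiv.apply_symm_apply])⟩⟩

theorem bijective_tensorMap {A B : P.Modules} (φ : A ⟶ B) (K : P.Modules) (hA : Coh.IsQCoh A) (hB : Coh.IsQCoh B)
    (hK : Coh.IsQCoh K) {O : P.Opens} (hO : IsAffineOpen O) (h : Function.Bijective (φ.app O)) :
    Function.Bijective (((DCoh.tensorBi.obj K).map φ).app O) := by
  let φL : Γ(A, O) →ₗ[Γ(P, O)] Γ(B, O) :=
    { toFun := φ.app O, map_add' := map_add _, map_smul' := fun r x => Scheme.Modules.Hom.app_smul φ r x }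
  let e := TensorProduct.congr (LinearEquiv.refl Γ(P, O) Γ(K, O)) (LinearEquiv.ofBijective φL h)
  have h1 : ∀ z, ((DCoh.tensorBi.obj K).map φ).app O (QCoh.tmLin K A O z) = QCoh.tmLin K B O (e z) := by
    intro z
    induction z using TensorProduct.induction_on with
    | zero => simp
    | add a b ha hb => simp only [map_add, ha, hb]
    | tmul k a => exact KFlatLib.tmSh_naturality_right K φ k a
  have h2 : Function.Bijective (((DCoh.tensorBi.obj K).map φ).app O ∘ QCoh.tmLin K A O) := by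
    rw [show ((DCoh.tensorBi.obj K).map φ).app O ∘ QCoh.tmLin K A O = QCoh.tmLin K B O ∘ e from funext h1]
    exact (QCoh.bijective_tmLin hK hB hO).comp e.bijective
  exact ⟨Function.Injective.of_comp_right h2.1 (QCoh.bijective_tmLin hK hA hO).2,
    Function.Surjective.of_comp h2.2⟩

/-- Every map out of the structure module acts as a multiple of an invertible one. -/
theorem exists_smul (K : P.Modules) (hK : Coh.IsQCoh K) {N : X.Modules} (u v : Coh.structureModule X ⟶ N)
    {U : X.Opens} (hU : IsAffineOpen U) {O : P.Opens} (hO : IsAffineOpen O) (hle : O ≤ p ⁻¹ᵁ U)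
    {a : Γ(X, U)} (ha : v.app U (1 : Γ(X, U)) = a • u.app U (1 : Γ(X, U)))
    (w : Γ((KFlatLib.tensorPull p K).obj (Coh.structureModule X), O)) :
    ((KFlatLib.tensorPull p K).map v).app O w =
      p.appLE U O hle a • ((KFlatLib.tensorPull p K).map u).app O w := by
  let A := (Scheme.Modules.pullback p).obj (Coh.structureModule X)
  letI : Algebra Γ(X, U) Γ(P, O) := (p.appLE U O hle).hom.toAlgebra
  letI : Module Γ(X, U) Γ(A, O) := Module.compHom _ (p.appLE U O hle).hom
  haveI : IsScalarTower Γ(X, U) Γ(P, O) Γ(A, O) := .of_algebraMap_smul fun _ _ => rfl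
  let lA : Γ(Coh.structureModule X, U) →ₗ[Γ(X, U)] Γ(A, O) :=
    { toFun := QCoh.pullSec p _ hle
      map_add' := QCoh.pullSec_add p _ hle
      map_smul' := QCoh.pullSec_smul p _ hle }
  have hA := QCoh.isBaseChange_pullback hU p hO QCoh.isQCoh_structureModule hle (fun _ => rfl) lA fun _ => rfl
  obtain ⟨z, rfl⟩ := (QCoh.bijective_tmLin hK (QCoh.isQCoh_pullback p QCoh.isQCoh_structureModule) hO).2 w
  induction z using TensorProduct.induction_on with
  | zero => exact (map_zero _).trans ((congrArg _ (map_zero _)).trans (smul_zero _)).symm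
  | add z z' hz hz' => simp only [map_add, smul_add, hz, hz']
  | tmul k x =>
    induction x using hA.inductionOn with
    | zero =>
      rw [TensorProduct.tmul_zero, map_zero]
      exact (map_zero _).trans ((congrArg _ (map_zero _)).trans (smul_zero _)).symm
    | smul r x hx =>
      rw [TensorProduct.tmul_smul, map_smul, Scheme.Modules.Hom.app_smul, Scheme.Modules.Hom.app_smul, hx, smul_comm]
    | add x y hx hy => simp only [TensorProduct.tmul_add, map_add, smul_add, hx, hy]
    | tmul m =>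
      have h1 : ∀ f : Coh.structureModule X ⟶ N,
          ((KFlatLib.tensorPull p K).map f).app O (QCoh.tmLin K A O (k ⊗ₜ lA m)) =
            QCoh.tmS K _ k (QCoh.pullSec p N hle (f.app U m)) := fun f => by
        refine (KFlatLib.tmSh_naturality_right K ((Scheme.Modules.pullback p).map f) k _).trans ?_
        exact congrArg (QCoh.tmS K _ k) (KFlatLib.SecPoint.pullSec_map p hle f m).symm
      have h2 : v.app U m = a • u.app U m := by
        have : m = (show Γ(X, U) from m) • (1 : Γ(X, U)) := (mul_one (show Γ(X, U) from m)).symm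
        rw [this, Scheme.Modules.Hom.app_smul, Scheme.Modules.Hom.app_smul, ha, smul_comm]
      rw [h1, h1, h2, QCoh.pullSec_smul, QCoh.tmS_smul_right]

end

/-- Evaluation of a finite sum of morphisms. -/
theorem app_sum {Z : Scheme.{u}} {M N : Z.Modules} {κ : Type*} (W : Z.Opens) (s : Finset κ)
    (f : κ → (M ⟶ N)) (x : Γ(M, W)) : (∑ a ∈ s, f a).app W x = ∑ a ∈ s, (f a).app W x := by
  classical
  induction s using Finset.induction_on with
  | empty => rfl
  | insert a s has ih =>
    rw [Finset.sum_insert has, Finset.sum_insert has, ← ih]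
    rfl

/-- A morphism of modules on sections, as a linear map. -/
noncomputable def appLin {Z : Scheme.{u}} {M N : Z.Modules} (φ : M ⟶ N) (W : Z.Opens) :
    Γ(M, W) →ₗ[Γ(Z, W)] Γ(N, W) where
  toFun := φ.app W
  map_add' := map_add _
  map_smul' := fun r x => Scheme.Modules.Hom.app_smul φ r x

/-- A kernel with exact functor is generated by its direct image. -/
theorem epi_counit {S X Y P : Scheme.{u}} {sX : X ⟶ S} {sY : Y ⟶ S} [IsAffine S] [CompactSpace X] [IsSeparated sX]
    {p : P ⟶ X} {q : P ⟶ Y} (h : IsPullback p q sX sY) [HasInjectiveResolutions P.Modules]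
    (K : P.Modules) (hK : Coh.IsQCoh K) (hKf : FlatMod.IsFlatOver p K)
    (hKa : ∀ M : QCohCat.QCoh X, IsZero ((Coh.Rpush q 1).obj ((pre p K).obj M))) :
    Epi ((Scheme.Modules.pullbackPushforwardAdjunction q).counit.app K) := by
  haveI : QuasiCompact sX := inferInstance
  haveI : QuasiCompact q := MorphismProperty.of_isPullback h inferInstance
  haveI : QuasiSeparated q := MorphismProperty.of_isPullback h inferInstance
  let G := KFlatLib.tensorPull p K
  have hG : ∀ M : X.Modules, Coh.IsQCoh M → Coh.IsQCoh (G.obj M) := fun M hM =>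
    KFlatLib.isQCoh_tensor hK (QCoh.isQCoh_pullback p hM)
  let ι := X.affineOpens × Y.affineOpens
  let O : ι → P.Opens := fun i => p ⁻¹ᵁ i.1.1 ⊓ q ⁻¹ᵁ i.2.1
  have haff : ∀ i, IsAffineOpen (O i) := fun i => by
    obtain ⟨l, r, -, -, h'⟩ := Acyclic13.isPullback_opens h i.1.1 i.2.1 _ rfl
    haveI : IsAffine (i.1.1 : Scheme.{u}) := i.1.2
    haveI : IsAffine (i.2.1 : Scheme.{u}) := i.2.2
    haveI : IsAffineHom r := MorphismProperty.of_isPullback h' inferInstance
    exact isAffine_of_isAffineHom r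
  refine epi_of_cover (QCoh.isQCoh_pullback q (QCoh.isQCoh_pushforward q hK)) hK _ O haff (fun x => ?_) fun i k => ?_
  · obtain ⟨_, ⟨U, hU, rfl⟩, hx, -⟩ := X.isBasis_affineOpens.exists_subset_of_mem_open (Set.mem_univ (p x)) isOpen_univ
    obtain ⟨_, ⟨Y₀, hY₀, rfl⟩, hy, -⟩ := Y.isBasis_affineOpens.exists_subset_of_mem_open (Set.mem_univ (q x)) isOpen_univ
    exact ⟨⟨⟨U, hU⟩, ⟨Y₀, hY₀⟩⟩, hx, hy⟩
  obtain ⟨⟨U, hU⟩, ⟨Y₀, hY₀⟩⟩ := i
  let O' : P.Opens := p ⁻¹ᵁ U ⊓ q ⁻¹ᵁ Y₀
  have hO : IsAffineOpen O' := haff ⟨⟨U, hU⟩, ⟨Y₀, hY₀⟩⟩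
  have hle₁ : O' ≤ p ⁻¹ᵁ U := inf_le_left
  have hle₂ : O' ≤ q ⁻¹ᵁ Y₀ := inf_le_right
  -- the span of the restrictions
  let T := (Scheme.Modules.pullbackPushforwardAdjunction q).counit.app K
  let R : Submodule Γ(P, O') Γ(K, O') :=
    LinearMap.range (appLin T O')
  suffices hs : k ∈ R from hs
  have hres : ∀ t : Γ(K, q ⁻¹ᵁ Y₀), K.presheaf.map (homOfLE hle₂).op t ∈ R := fun t => by
    refine ⟨QCoh.pullSec q ((Scheme.Modules.pushforward q).obj K) hle₂ (show Γ((Scheme.Modules.pushforward q).obj K, Y₀) from t), ?_⟩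
    show T.app O' _ = _
    unfold QCoh.pullSec
    refine (QCoh.map_app_comm T _ _).trans (congrArg _ ?_)
    exact congr(($((Scheme.Modules.pullbackPushforwardAdjunction q).right_triangle_components K)).app Y₀ t)
  -- transport along the twist by the structure module
  haveI : IsIso (SheafOfModules.pullbackObjUnitToUnit p.toRingCatSheafHom) := inferInstance
  let c : G.obj (Coh.structureModule X) ≅ K :=
    (DCoh.tensorBi.obj K).mapIso (show (Scheme.Modules.pullback p).obj (Coh.structureModule X) ≅ Coh.structureModule P from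
      asIso (SheafOfModules.pullbackObjUnitToUnit p.toRingCatSheafHom)) ≪≫ KFlatLib.tensorUnitIso K
  let z := c.inv.app O' k
  -- the twist of the functions on U
  haveI : IsAffineHom U.ι := ⟨fun W hW => (U.ι.isAffineOpen_iff_of_isOpenImmersion).1 (by
    rw [Scheme.Hom.image_preimage_eq_opensRange_inf, Scheme.Opens.opensRange_ι]
    haveI : X.IsSeparated := ⟨by rw [← terminal.comp_from sX]; infer_instance⟩
    exact hU.inf hW)⟩
  have hM : Coh.IsQCoh (pushOne U) := QCoh.isQCoh_pushforward U.ι QCoh.isQCoh_structureModule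
  let A := G.obj (pushOne U)
  let j := (p ⁻¹ᵁ U).ι
  haveI : IsAffineHom j := MorphismProperty.of_isPullback (isPullback_morphismRestrict p U) inferInstance
  let B₀ := (Scheme.Modules.pullback (p ∣_ U)).obj (Coh.structureModule (U : Scheme.{u}))
  have hB₀ : Coh.IsQCoh B₀ := QCoh.isQCoh_pullback _ QCoh.isQCoh_structureModule
  haveI := isIso_bcNat U.ι (isPullback_morphismRestrict p U) _ QCoh.isQCoh_structureModule
  haveI := isIso_projMod j (M := B₀) hB₀ hK
  let eA : A ≅ (Scheme.Modules.pushforward j).obj ((DCoh.tensorBi.obj B₀).obj ((Scheme.Modules.pullback j).obj K)) :=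
    (DCoh.tensorBi.obj K).mapIso (asIso ((bcNat U.ι (isPullback_morphismRestrict p U)).app _)) ≪≫
      ((KFlatLib.tensorBiFlipIso P).app K).symm.app _ ≪≫ asIso (KFlatLib.projMod j B₀ K)
  obtain ⟨α, hα⟩ : ∃ α : Γ(A, q ⁻¹ᵁ Y₀), A.presheaf.map (homOfLE hle₂).op α =
      (G.map (QCoh.homOfTop (show Γ(pushOne U, ⊤) from (1 : Γ((U : Scheme.{u}), U.ι ⁻¹ᵁ ⊤))))).app O' z := by
    set t := (G.map (QCoh.homOfTop (show Γ(pushOne U, ⊤) from (1 : Γ((U : Scheme.{u}), U.ι ⁻¹ᵁ ⊤))))).app O' z
    let B := (DCoh.tensorBi.obj B₀).obj ((Scheme.Modules.pullback j).obj K)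
    let s : Γ(B, j ⁻¹ᵁ O') := eA.hom.app O' t
    have he : j ⁻¹ᵁ (q ⁻¹ᵁ Y₀) = j ⁻¹ᵁ O' := by
      show _ = j ⁻¹ᵁ (p ⁻¹ᵁ U ⊓ q ⁻¹ᵁ Y₀)
      rw [Scheme.Hom.preimage_inf, Scheme.Opens.ι_preimage_self, top_inf_eq]
    refine ⟨eA.inv.app (q ⁻¹ᵁ Y₀) (B.presheaf.map (eqToHom he).op s), ?_⟩
    refine (QCoh.map_app_comm eA.inv _ _).symm.trans ?_
    show eA.inv.app O' (B.presheaf.map ((Opens.map j.base).map (homOfLE hle₂)).op (B.presheaf.map (eqToHom he).op s)) = t
    rw [QCoh.map_map, Subsingleton.elim ((Opens.map j.base).map (homOfLE hle₂) ≫ eqToHom he) (𝟙 _)]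
    simp [s]
    exact congr(($(eA.hom_inv_id)).app O' t)
  -- the functor is right exact
  haveI : PreservesFiniteColimits (pre p K ⋙ Scheme.Modules.pushforward q) := (exact_comp_flat q hKf hKa).2
  let J := Γ(pushOne U, ⊤)
  let D : J → X.Modules := fun _ => Coh.structureModule X
  have hD : Coh.IsQCoh (∐ D) := QCoh.isQCoh_colimit _ fun _ => QCoh.isQCoh_structureModule
  let gq : (⟨∐ D, hD⟩ : QCohCat.QCoh X) ⟶ ⟨pushOne U, hM⟩ := ObjectProperty.homMk (genMap U)
  haveI : Epi gq := (QCohCat.isQCoh X).ι.epi_of_epi_map (epi_genMap sX hU)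
  haveI : Epi ((Scheme.Modules.pushforward q).map (G.map (genMap U))) := by
    haveI : Epi ((Scheme.Modules.pushforward q).map ((pre p K).map gq)) :=
      inferInstanceAs (Epi ((pre p K ⋙ Scheme.Modules.pushforward q).map gq))
    have := (preIso p K).hom.naturality gq
    haveI : Epi ((Scheme.Modules.pushforward q).map ((preIso p K).hom.app ⟨∐ D, hD⟩) ≫
        (Scheme.Modules.pushforward q).map (G.map (genMap U))) := by
      rw [← Functor.map_comp]
      change Epi ((Scheme.Modules.pushforward q).map ((preIso p K).hom.app _ ≫ (ObjectProperty.ι _ ⋙ G).map gq))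
      rw [← this, Functor.map_comp]
      infer_instance
    exact epi_of_epi ((Scheme.Modules.pushforward q).map ((preIso p K).hom.app ⟨∐ D, hD⟩)) _
  obtain ⟨β, hβ⟩ := QCoh.app_surjective_of_epi (QCoh.isQCoh_pushforward q (hG _ hD))
    (QCoh.isQCoh_pushforward q (hG _ hM)) ((Scheme.Modules.pushforward q).map (G.map (genMap U))) hY₀
    (show Γ((Scheme.Modules.pushforward q).obj (G.obj (pushOne U)), Y₀) from α)
  let β' : Γ(G.obj (∐ D), q ⁻¹ᵁ Y₀) := β
  have hβ' : (G.map (genMap U)).app (q ⁻¹ᵁ Y₀) β' = α := hβ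
  -- a finite sum
  let e := PreservesCoproduct.iso G D
  obtain ⟨F, hF⟩ := KFlatLib.exists_fix_section (fun j => G.obj (D j)) (W := q ⁻¹ᵁ Y₀)
    (q.isCompact_preimage hY₀.isCompact) (e.hom.app _ β')
  classical
  let pr : J → ((∐ fun j => G.obj (D j)) ⟶ G.obj (Coh.structureModule X)) := fun a =>
    Sigma.desc fun b => if b = a then 𝟙 _ else 0
  have hdec : KFlatLib.finProj (fun j => G.obj (D j)) F ≫ KFlatLib.finIncl (fun j => G.obj (D j)) F ≫ e.inv ≫ G.map (genMap U) =
      ∑ a ∈ F, pr a ≫ G.map (QCoh.homOfTop a) := by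
    refine Sigma.hom_ext _ _ fun b => ?_
    rw [Preadditive.comp_sum]
    simp only [pr, colimit.ι_desc_assoc, Cofan.mk_ι_app, ite_comp, zero_comp]
    rw [Finset.sum_ite_eq]
    by_cases hb : b ∈ F
    · rw [if_pos hb, reassoc_of% (KFlatLib.ι_finProj_finIncl (fun j => G.obj (D j)) F b hb)]
      have h1 : Sigma.ι (fun j => G.obj (D j)) b ≫ e.inv = G.map (Sigma.ι D b) := by
        simp [e]
      rw [reassoc_of% h1, ← Functor.map_comp, genMap, Sigma.ι_desc]
      exact (Category.id_comp _).symm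
    · rw [if_neg hb]
      simp [KFlatLib.finProj, hb]
  have hα2 : α = ∑ a ∈ F, (G.map (QCoh.homOfTop a)).app _ ((pr a).app _ (e.hom.app _ β')) := by
    have h1 := congr(($hdec).app (q ⁻¹ᵁ Y₀) (e.hom.app _ β'))
    have h2 : (e.inv).app (q ⁻¹ᵁ Y₀) (e.hom.app _ β') = β' := congr(($(e.hom_inv_id)).app _ β')
    rw [← hβ']
    refine Eq.trans ?_ (h1.trans ?_)
    · show _ = (G.map (genMap U)).app _ (e.inv.app _ ((KFlatLib.finProj _ F ≫ KFlatLib.finIncl _ F).app _ (e.hom.app _ β')))
      rw [hF F subset_rfl, h2]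
    · exact app_sum _ F _ _
  let u : Coh.structureModule X ⟶ pushOne U :=
    QCoh.homOfTop (show Γ(pushOne U, ⊤) from (1 : Γ((U : Scheme.{u}), U.ι ⁻¹ᵁ ⊤)))
  have hu : Function.Bijective (u.app U) := by
    have h1 : (u.app U : Γ(X, U) → Γ(pushOne U, U)) = fun a => U.ι.app U a := funext fun a => by
      refine (QCoh.homOfTop_app _ a).trans ?_
      show (U.ι.app U a : Γ((U : Scheme.{u}), U.ι ⁻¹ᵁ U)) *
        ((U : Scheme.{u}).presheaf.map ((Opens.map U.ι.base).map (homOfLE le_top)).op
          (1 : Γ((U : Scheme.{u}), U.ι ⁻¹ᵁ ⊤)) : Γ((U : Scheme.{u}), U.ι ⁻¹ᵁ U)) = _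
      rw [map_one, mul_one]
    rw [h1]
    haveI := U.ι.isIso_app U (by simp)
    exact (ConcreteCategory.bijective_of_isIso (U.ι.app U))
  have hnum : ∀ a : J, ∃ r : Γ(X, U), (QCoh.homOfTop a : Coh.structureModule X ⟶ pushOne U).app U (1 : Γ(X, U)) =
      r • u.app U (1 : Γ(X, U)) := fun a => by
    obtain ⟨r, hr⟩ := hu.2 ((QCoh.homOfTop a : Coh.structureModule X ⟶ pushOne U).app U (1 : Γ(X, U)))
    refine ⟨r, hr.symm.trans ?_⟩
    refine (congrArg (u.app U) (show (r : Γ(Coh.structureModule X, U)) = (show Γ(X, U) from r) • (1 : Γ(X, U)) from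
      (mul_one (show Γ(X, U) from r)).symm)).trans ?_
    exact Scheme.Modules.Hom.app_smul u (show Γ(X, U) from r) (1 : Γ(X, U))
  choose num hnum using hnum
  have hz : z = ∑ a ∈ F, p.appLE U O' hle₁ (num a) •
      (G.obj (Coh.structureModule X)).presheaf.map (homOfLE hle₂).op ((pr a).app _ (e.hom.app _ β')) := by
    refine (bijective_tensorMap ((Scheme.Modules.pullback p).map u) K (QCoh.isQCoh_pullback p QCoh.isQCoh_structureModule)
      (QCoh.isQCoh_pullback p hM) hK hO (bijective_pullMap p u QCoh.isQCoh_structureModule hM hU hO hle₁ hu)).1 ?_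
    show (G.map u).app O' z = (G.map u).app O' _
    rw [← hα, hα2, map_sum, map_sum]
    refine Finset.sum_congr rfl fun a _ => ?_
    rw [Scheme.Modules.Hom.app_smul, ← QCoh.map_app_comm]
    exact exists_smul p K hK u (QCoh.homOfTop a) hU hO hle₁ (hnum a) _
  have hk : k = c.hom.app O' z := (congr(($(c.inv_hom_id)).app O' k)).symm
  rw [hk, hz, map_sum]
  refine Submodule.sum_mem _ fun a _ => ?_
  rw [Scheme.Modules.Hom.app_smul, QCoh.map_app_comm]
  exact R.smul_mem _ (hres _)

end Groth.Agent.FunMorK
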