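import Groth.Agent.FunMorK.Proj
import Groth.Agent.QCoh.Pullback
import Groth.Agent.KFlatLib.Scheme.QCohTensor

/-! Kernel functors and base change on either side. -/

set_option autoImplicit false
set_option linter.style.haveILetI false
set_option backward.isDefEq.respectTransparency false
set_option backward.isDefEq.respectTransparency.types false
set_option maxHeartbeats 1000000

universe u

open CategoryTheory CategoryTheory.Limits AlgebraicGeometry

namespace Groth.Agent.FunMorK

open Scheme.Modules in
theorem comp_left {X X' P P' Y : Scheme.{u}} (f : X' ⟶ X) (p : P ⟶ X) (g : P' ⟶ P) (p' : P' ⟶ X')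
    (q : P ⟶ Y) (q' : P' ⟶ Y) (h : IsPullback p' g f p) (hq : g ≫ q = q') [IsAffineHom f]
    (K : P.Modules) (hK : Coh.IsQCoh K) :
    Nonempty (ObjectProperty.ι (QCohCat.isQCoh X') ⋙ Coh.push f ⋙
        (pullback p ⋙ DCoh.tensorRightMod K ⋙ Coh.push q) ≅
      ObjectProperty.ι (QCohCat.isQCoh X') ⋙
        (pullback p' ⋙ DCoh.tensorRightMod ((Scheme.Modules.pullback g).obj K) ⋙ Coh.push q')) := by
  haveI : IsAffineHom g := MorphismProperty.of_isPullback h inferInstance
  let K' := (Scheme.Modules.pullback g).obj K
  let c : pushforward g ⋙ pushforward q ≅ pushforward q' := pushforwardComp g q ≪≫ pushforwardCongr hq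
  let T := DCoh.tensorRightMod K
  let T' := DCoh.tensorRightMod K'
  let a : ∀ M : X'.Modules, T.obj ((Scheme.Modules.pullback p).obj ((pushforward f).obj M)) ⟶
      (pushforward g).obj (T'.obj ((Scheme.Modules.pullback p').obj M)) := fun M =>
    T.map ((bcNat f h).app M) ≫ (twistIso K).hom.app ((pushforward g).obj ((Scheme.Modules.pullback p').obj M)) ≫ (projNatT g K).app ((Scheme.Modules.pullback p').obj M) ≫
      (pushforward g).map ((twistIso K').inv.app _)
  have ha : ∀ {M N : X'.Modules} (φ : M ⟶ N),
      T.map ((Scheme.Modules.pullback p).map ((pushforward f).map φ)) ≫ a N =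
        a M ≫ (pushforward g).map (T'.map ((Scheme.Modules.pullback p').map φ)) := fun {M N} φ => by
    let ψ := (Scheme.Modules.pullback p').map φ
    have e1 : (Scheme.Modules.pullback p).map ((pushforward f).map φ) ≫ (bcNat f h).app N =
        (bcNat f h).app M ≫ (pushforward g).map ψ := (bcNat f h).naturality φ
    have e2 : T.map ((pushforward g).map ψ) ≫ (twistIso K).hom.app _ =
        (twistIso K).hom.app _ ≫ (DCoh.tensorBi.flip.obj K).map ((pushforward g).map ψ) :=
      (twistIso K).hom.naturality _
    have e3 : (DCoh.tensorBi.flip.obj K).map ((pushforward g).map ψ) ≫ (projNatT g K).app _ =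
        (projNatT g K).app _ ≫ (pushforward g).map ((DCoh.tensorBi.flip.obj K').map ψ) :=
      (projNatT g K).naturality ψ
    have e4 : (DCoh.tensorBi.flip.obj K').map ψ ≫ (twistIso K').inv.app _ =
        (twistIso K').inv.app _ ≫ T'.map ψ := (twistIso K').inv.naturality ψ
    simp only [a, Category.assoc]
    rw [← T.map_comp_assoc, e1, T.map_comp_assoc, reassoc_of% e2, reassoc_of% e3, ← (pushforward g).map_comp, e4,
      (pushforward g).map_comp]
  let τ : pushforward f ⋙ (Scheme.Modules.pullback p ⋙ T ⋙ pushforward q) ⟶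
      Scheme.Modules.pullback p' ⋙ T' ⋙ pushforward q' :=
    { app := fun M => (pushforward q).map (a M) ≫ c.hom.app _
      naturality := fun M N φ => by
        simp only [Functor.comp_map, Category.assoc]
        rw [← (pushforward q).map_comp_assoc, ha, (pushforward q).map_comp_assoc]
        congr 1
        exact c.hom.naturality _ }
  refine ⟨qcohIso τ fun M hM => ?_⟩
  haveI := isIso_bcNat f h M hM
  haveI : IsIso ((projNatT g K).app ((Scheme.Modules.pullback p').obj M)) := isIso_projMod g (QCoh.isQCoh_pullback p' hM) hK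
  dsimp only [τ, a, T, T']
  infer_instance

open Scheme.Modules in
theorem comp_right {X Y Y' P P' : Scheme.{u}} (g : Y' ⟶ Y) (p : P ⟶ X) (h : P' ⟶ P) (p' : P' ⟶ X)
    (q : P ⟶ Y) (q' : P' ⟶ Y') (hsq : IsPullback h q' q g) (hp : h ≫ p = p') [IsAffineHom q]
    (K : P.Modules) (hK : Coh.IsQCoh K) :
    Nonempty ((ObjectProperty.ι (QCohCat.isQCoh X) ⋙ pullback p ⋙ DCoh.tensorRightMod K ⋙ Coh.push q) ⋙
        pullback g ≅
      ObjectProperty.ι (QCohCat.isQCoh X) ⋙
        (pullback p' ⋙ DCoh.tensorRightMod ((Scheme.Modules.pullback h).obj K) ⋙ Coh.push q')) := by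
  let K' := (Scheme.Modules.pullback h).obj K
  let c : pullback p ⋙ pullback h ≅ pullback p' := pullbackComp h p ≪≫ pullbackCongr hp
  let T := DCoh.tensorRightMod K
  let T' := DCoh.tensorRightMod K'
  let τ : Scheme.Modules.pullback p ⋙ T ⋙ pushforward q ⋙ Scheme.Modules.pullback g ⟶
      Scheme.Modules.pullback p' ⋙ T' ⋙ pushforward q' :=
    { app := fun M => (bcNat q hsq).app _ ≫
        (pushforward q').map ((KFlatLib.pullTensorRightIso h K).hom.app _ ≫ T'.map (c.hom.app M))
      naturality := fun M N φ => by
        let ψ := (Scheme.Modules.pullback p).map φ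
        have e1 : (Scheme.Modules.pullback g).map ((pushforward q).map (T.map ψ)) ≫ (bcNat q hsq).app _ =
            (bcNat q hsq).app _ ≫ (pushforward q').map ((Scheme.Modules.pullback h).map (T.map ψ)) :=
          (bcNat q hsq).naturality _
        have e2 : (Scheme.Modules.pullback h).map (T.map ψ) ≫ (KFlatLib.pullTensorRightIso h K).hom.app _ =
            (KFlatLib.pullTensorRightIso h K).hom.app _ ≫ T'.map ((Scheme.Modules.pullback h).map ψ) :=
          (KFlatLib.pullTensorRightIso h K).hom.naturality ψ
        have e3 : (Scheme.Modules.pullback h).map ψ ≫ c.hom.app N = c.hom.app M ≫ (Scheme.Modules.pullback p').map φ :=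
          c.hom.naturality φ
        simp only [Functor.comp_map, Category.assoc]
        rw [reassoc_of% e1, ← (pushforward q').map_comp, ← (pushforward q').map_comp, reassoc_of% e2, ← T'.map_comp,
          e3, T'.map_comp, Category.assoc] }
  refine ⟨?_⟩
  refine NatIso.ofComponents (fun M => @asIso _ _ _ _ (τ.app M.obj) ?_) fun φ => τ.naturality φ.hom
  haveI := isIso_bcNat q hsq ((DCoh.tensorRightMod K).obj ((Scheme.Modules.pullback p).obj M.obj))
    ((QCoh.isQCoh_iff_iso ((twistIso K).app _)).2 (KFlatLib.isQCoh_tensor (QCoh.isQCoh_pullback p M.2) hK))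
  dsimp only [τ, T, T']
  infer_instance

end Groth.Agent.FunMorK
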