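import Groth.Agent.KFlatLib.Scheme.DQCohSections
import Groth.Agent.KFlatLib.Scheme.Grothendieck
import Groth.Agent.QCoh.Devissage
import Groth.Agent.QCoh.DevissageP
import Groth.Agent.QCoh.SubCompare
import Groth.Agent.QCoh.Qcqs
import Groth.Agent.QCohAb.Basic
import Groth.Agent.QCoh.FT

/-! Serre classes of quasi-coherent modules and supports. -/

set_option autoImplicit false
set_option linter.style.haveILetI false
set_option backward.isDefEq.respectTransparency false
set_option backward.isDefEq.respectTransparency.types false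
set_option maxHeartbeats 1000000

universe u

open CategoryTheory CategoryTheory.Limits AlgebraicGeometry TopologicalSpace Opposite

namespace Groth.Agent.FunMorK.SerreSupp

variable {A : Type u} [CommRing A]

/-- If `m` is killed by a power of every element annihilating `M`, a non-zero element is killed by `Ann M`. -/
theorem exists_killed (M N : Type u) [AddCommGroup M] [Module A M] [Module.FinitePresentation A M]
    [AddCommGroup N] [Module A N] (m : N) (hm : m ≠ 0)
    (h : ∀ a ∈ Module.annihilator A M, ∃ k : ℕ, a ^ k • m = 0) :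
    ∃ z : N, z ≠ 0 ∧ ∀ a ∈ Module.annihilator A M, a • z = 0 := by
  classical
  obtain ⟨n, π, hπ⟩ := Module.Finite.exists_fin' A M
  obtain ⟨R, hR⟩ := Module.FinitePresentation.fg_ker π hπ
  let detMap : (Fin n → (Fin n → A)) → A := fun v => (Matrix.of v).det
  let S : Finset (Fin n → (Fin n → A)) := Fintype.piFinset fun _ => R
  let J : Ideal A := Ideal.span (detMap '' (S : Set (Fin n → (Fin n → A))))
  have hdet : ∀ v : Fin n → (Fin n → A), (∀ i, v i ∈ LinearMap.ker π) → detMap v ∈ J := by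
    intro v hv
    have hc : ∀ i, ∃ c : R → A, ∑ r, c r • (r : Fin n → A) = v i := fun i => by
      have := hv i
      rw [← hR, Submodule.mem_span_finset'] at this
      exact this
    choose c hc using hc
    have hvc : v = fun i => ∑ r, c i r • (r : Fin n → A) := funext fun i => (hc i).symm
    have e : detMap v = ∑ r : Fin n → R, (∏ i, c i (r i)) • detMap fun i => (r i : Fin n → A) := by
      show (Matrix.detRowAlternating : (Fin n → A) [⋀^Fin n]→ₗ[A] A).toMultilinearMap v = _
      rw [hvc, MultilinearMap.map_sum]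
      refine Finset.sum_congr rfl fun r _ => ?_
      exact MultilinearMap.map_smul_univ _ (fun i => c i (r i)) fun i => (r i : Fin n → A)
    rw [e]
    refine Submodule.sum_mem _ fun r _ => Submodule.smul_mem _ _ (Ideal.subset_span ⟨_, ?_, rfl⟩)
    exact Fintype.mem_piFinset.2 fun i => (r i).2
  let Ann := Module.annihilator A M
  have hAJ : Ann ^ n ≤ J := by
    have key : ∀ a : Fin n → A, (∀ i, a i ∈ Ann) → ∏ i, a i ∈ J := fun a ha => by
      have := hdet (fun i => Pi.single i (a i)) fun i => by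
        rw [LinearMap.mem_ker, show (Pi.single i (a i) : Fin n → A) = a i • Pi.single i (1 : A) by
          ext j; by_cases hj : j = i <;> simp [hj], map_smul]
        exact Module.mem_annihilator.1 (ha i) _
      have e : detMap (fun i => Pi.single i (a i)) = ∏ i, a i := by
        have : Matrix.of (fun i => (Pi.single i (a i) : Fin n → A)) = Matrix.diagonal a := by
          ext i j; by_cases hij : i = j
          · subst hij; simp
          · simp [hij, Ne.symm hij]
        simp only [detMap, this, Matrix.det_diagonal]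
      rwa [e] at this
    rw [show Ann ^ n = ∏ _i : Fin n, Ann by simp]
    refine le_trans (le_of_eq ?_) ((Ideal.span_le (s := {x | ∃ a : Fin n → A, (∀ i, a i ∈ Ann) ∧ x = ∏ i, a i})).2
      fun x ⟨a, ha, hx⟩ => hx ▸ key a ha)
    conv_lhs => rw [show (∏ _i : Fin n, Ann) = ∏ _i : Fin n, Ideal.span (Ann : Set A) by simp [Ideal.span_eq]]
    rw [Ideal.prod_span]
    refine congrArg _ (Set.ext fun x => ?_)
    simp only [Set.mem_finsetProd, Finset.mem_univ, SetLike.mem_coe, Set.mem_ofPred_eq]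
    exact ⟨fun ⟨a, ha, hx⟩ => ⟨a, fun i => ha trivial, hx.symm⟩, fun ⟨a, ha, hx⟩ => ⟨a, fun {i} _ => ha i, hx.symm⟩⟩
  have hJann : J ≤ (Ideal.torsionOf A N m).radical := by
    refine Ideal.span_le.2 ?_
    rintro _ ⟨v, hv, rfl⟩
    have hkill : detMap v ∈ Ann := Module.mem_annihilator.2 fun y => by
      obtain ⟨y, rfl⟩ := hπ y
      have hv' : ∀ i, π (v i) = 0 := fun i => LinearMap.mem_ker.1 (hR ▸ Submodule.subset_span (Fintype.mem_piFinset.1 hv i))
      let B := Matrix.of v
      have : detMap v • y = ∑ i, (∑ j, y j * B.adjugate j i) • v i := by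
        funext l
        have e := congrArg (fun C : Matrix (Fin n) (Fin n) A => Matrix.vecMul y C l) (Matrix.adjugate_mul B)
        simp only [← Matrix.vecMul_vecMul, Matrix.vecMul_smul, Matrix.vecMul_one, Pi.smul_apply, smul_eq_mul] at e
        rw [Pi.smul_apply, smul_eq_mul]
        simp only [detMap, Finset.sum_apply, Pi.smul_apply, smul_eq_mul]
        rw [show (Matrix.of v).det * y l = B.det * y l from rfl, ← e]
        rfl
      rw [← map_smul, this, map_sum]
      exact Finset.sum_eq_zero fun i _ => by rw [map_smul, hv' i, smul_zero]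
    obtain ⟨k, hk⟩ := h _ hkill
    exact ⟨k, hk⟩
  obtain ⟨k, hk⟩ := Ideal.exists_pow_le_of_le_radical_of_fg hJann
    ⟨S.image detMap, by rw [Finset.coe_image]⟩
  have htot : Ann ^ (n * k) ≤ Ideal.torsionOf A N m := by
    rw [pow_mul]; exact (Ideal.pow_right_mono hAJ k).trans hk
  have : ∀ l : ℕ, Ann ^ l ≤ Ideal.torsionOf A N m → ∃ z : N, z ≠ 0 ∧ ∀ a ∈ Ann, a • z = 0 := by
    intro l
    induction l with
    | zero =>
      intro hl
      refine absurd ?_ hm
      have := hl (show (1 : A) ∈ Ann ^ 0 by simp)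
      rwa [Ideal.mem_torsionOf_iff, one_smul] at this
    | succ l ih =>
      intro hl
      by_cases hl' : Ann ^ l ≤ Ideal.torsionOf A N m
      · exact ih hl'
      · obtain ⟨b, hb, hbm⟩ := SetLike.not_le_iff_exists.1 hl'
        refine ⟨b • m, fun h0 => hbm ((Ideal.mem_torsionOf_iff _ _).2 h0), fun a ha => ?_⟩
        rw [smul_smul]
        exact (Ideal.mem_torsionOf_iff _ _).1 (hl (by rw [pow_succ']; exact Ideal.mul_mem_mul ha hb))
  exact this _ htot

section

variable {X : Scheme.{u}} {P : ObjectProperty X.Modules}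
  (hSerre : ∀ S : ShortComplex X.Modules, S.ShortExact → Coh.IsQCoh S.X₁ → Coh.IsQCoh S.X₂ →
      Coh.IsQCoh S.X₃ → (P S.X₂ ↔ P S.X₁ ∧ P S.X₃))

include hSerre

theorem of_mono {M N : X.Modules} (f : M ⟶ N) [Mono f] (hM : Coh.IsQCoh M) (hN : Coh.IsQCoh N) (h : P N) :
    P M :=
  ((hSerre (ShortComplex.mk f (cokernel.π f) (cokernel.condition f))
    { exact := ShortComplex.exact_of_g_is_cokernel _ (cokernelIsCokernel f) }
    hM hN (QCoh.isQCoh_cokernel hM hN f)).1 h).1

theorem of_epi {M N : X.Modules} (f : M ⟶ N) [Epi f] (hM : Coh.IsQCoh M) (hN : Coh.IsQCoh N) (h : P M) :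
    P N :=
  ((hSerre (ShortComplex.mk (kernel.ι f) f (kernel.condition f))
    { exact := ShortComplex.exact_of_f_is_kernel _ (kernelIsKernel f) }
    (QCoh.isQCoh_kernel hM hN f) hM hN).1 h).2

theorem of_kernel {M N : X.Modules} (f : M ⟶ N) [Epi f] (hM : Coh.IsQCoh M) (hN : Coh.IsQCoh N)
    (h : P N) (hk : P (kernel f)) : P M :=
  (hSerre (ShortComplex.mk (kernel.ι f) f (kernel.condition f))
    { exact := ShortComplex.exact_of_f_is_kernel _ (kernelIsKernel f) }
    (QCoh.isQCoh_kernel hM hN f) hM hN).2 ⟨hk, h⟩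

end

theorem isQCoh_image {X : Scheme.{u}} {M N : X.Modules} (f : M ⟶ N) (hM : Coh.IsQCoh M) (hN : Coh.IsQCoh N) :
    Coh.IsQCoh (Abelian.image f) :=
  QCoh.isQCoh_kernel hN (QCoh.isQCoh_cokernel hM hN f) _

theorem isQCoh_pullback {X : Scheme.{u}} {M N L : X.Modules} (f : M ⟶ L) (g : N ⟶ L) [Mono g]
    (hM : Coh.IsQCoh M) (hN : Coh.IsQCoh N) (hL : Coh.IsQCoh L) : Coh.IsQCoh (pullback f g) := by
  have hC := QCoh.isQCoh_cokernel hN hL g
  let k := f ≫ cokernel.π g
  have h1 : pullback.fst f g ≫ k = 0 := by simp [k, pullback.condition_assoc]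
  let a : pullback f g ⟶ kernel k := kernel.lift k _ h1
  haveI : Mono (pullback.fst f g) := inferInstance
  haveI : Mono a := mono_of_mono_fac (kernel.lift_ι k _ h1)
  obtain ⟨l, hl⟩ := KernelFork.IsLimit.lift' (Abelian.monoIsKernelOfCokernel _ (cokernelIsCokernel g))
    (kernel.ι k ≫ f) (by simp only [Category.assoc]; exact kernel.condition k)
  haveI : IsSplitEpi a := IsSplitEpi.mk' ⟨pullback.lift (kernel.ι k) l hl.symm, by
    rw [← cancel_mono (kernel.ι k), Category.assoc, kernel.lift_ι, pullback.lift_fst, Category.id_comp]⟩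
  haveI : IsIso a := isIso_of_mono_of_isSplitEpi a
  exact (QCoh.isQCoh_iff_iso (asIso a)).2 (QCoh.isQCoh_kernel hM hC k)

/-- A non-zero section is supported somewhere. -/
theorem exists_mem_support {X : Scheme.{u}} {E : X.Modules} (hE : Coh.IsQCoh E) {V : X.Opens} (hV : IsAffineOpen V)
    (m : Γ(E, V)) (hm : m ≠ 0) : ∃ y ∈ V, y ∈ CohB1.support E := by
  obtain ⟨q, hq, hmq⟩ := Ideal.exists_le_maximal (Ideal.torsionOf Γ(X, V) Γ(E, V) m) fun h => hm (by
    have : (1 : Γ(X, V)) ∈ Ideal.torsionOf Γ(X, V) Γ(E, V) m := h ▸ Submodule.mem_top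
    rwa [Ideal.mem_torsionOf_iff, one_smul] at this)
  obtain ⟨y, hy, hyq⟩ := QCoh.exists_point hV ⟨q, hq.isPrime⟩
  refine ⟨y, hy, (QCoh.mem_support_iff hE hV hy).2 ⟨m, fun f hf h => ?_⟩⟩
  rw [QCoh.mem_basicOpen_iff_notMem hV hy, hyq] at hf
  exact hf (hmq ((Ideal.mem_torsionOf_iff _ _).2 h))

theorem support_subset_of_mono {X : Scheme.{u}} {M N : X.Modules} (f : M ⟶ N) [Mono f] (hM : Coh.IsQCoh M)
    (hN : Coh.IsQCoh N) : CohB1.support M ⊆ CohB1.support N := fun y hy => by
  obtain ⟨_, ⟨W, hW, rfl⟩, hyW, -⟩ := X.isBasis_affineOpens.exists_subset_of_mem_open (Set.mem_univ y) isOpen_univ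
  obtain ⟨s, hs⟩ := (QCoh.mem_support_iff hM hW hyW).1 hy
  exact (QCoh.mem_support_iff hN hW hyW).2 ⟨f.app W s, fun a ha h => hs a ha (QCoh.app_injective f W (by
    rw [Scheme.Modules.Hom.app_smul, h, map_zero]))⟩

variable {X : Scheme.{u}} [QuasiSeparatedSpace X] {P : ObjectProperty X.Modules}
  (hSerre : ∀ S : ShortComplex X.Modules, S.ShortExact → Coh.IsQCoh S.X₁ → Coh.IsQCoh S.X₂ →
      Coh.IsQCoh S.X₃ → (P S.X₂ ↔ P S.X₁ ∧ P S.X₃))
  (hsum : ∀ (ι : Type u) (M : ι → X.Modules), (∀ i, Coh.IsQCoh (M i)) → (∀ i, P (M i)) → P (∐ M))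
  {F : X.Modules} (hFq : Coh.IsQCoh F) (hF : CohB1.IsFP F) (hPF : P F)

include hSerre hsum hFq hF hPF

/-- A non-zero module supported in the support of `F` has a non-zero submodule in `P`. -/
theorem exists_sub (l : List X.Opens) : ∀ (_ : ∀ U ∈ l, IsAffineOpen U) (E : X.Modules), Coh.IsQCoh E →
    CohB1.support E ⊆ CohB1.support F → (∀ y ∈ CohB1.support E, ∃ U ∈ l, y ∈ U) → ¬ IsZero E →
    ∃ (B : X.Modules) (b : B ⟶ E), Mono b ∧ Coh.IsQCoh B ∧ P B ∧ ¬ IsZero B := by
  induction l with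
  | nil =>
    intro _ E hE _ hc h0
    refine absurd (QCoh.isZero_of_cover hE (fun U : X.affineOpens => U.1) (fun U => U.2) (fun y => ?_) fun U => ?_) h0
    · obtain ⟨_, ⟨W, hW, rfl⟩, hyW, -⟩ := X.isBasis_affineOpens.exists_subset_of_mem_open (Set.mem_univ y) isOpen_univ
      exact ⟨⟨W, hW⟩, hyW⟩
    · refine subsingleton_of_forall_eq 0 fun m => by_contra fun hm => ?_
      obtain ⟨y, -, hy⟩ := exists_mem_support hE U.2 m hm
      obtain ⟨V, hV, -⟩ := hc y hy
      exact List.not_mem_nil hV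
  | cons U l ih =>
    intro hl E hE hsupp hc h0
    have hU : IsAffineOpen U := hl U (List.mem_cons_self ..)
    haveI : CompactSpace (U : Scheme.{u}) := isCompact_iff_compactSpace.1 hU.isCompact
    haveI : QuasiCompact U.ι := inferInstance
    let j := U.ι
    let adj := Scheme.Modules.restrictAdjunction j
    let η := adj.unit
    let U₁ : X.Opens := j ''ᵁ ⊤
    have hU₁ : U₁ = U := U.ι_image_top
    have hA₁ : IsAffineOpen U₁ := hU₁ ▸ hU
    have hJR : ∀ M : X.Modules, Coh.IsQCoh M → Coh.IsQCoh ((Scheme.Modules.pushforward j).obj (M.restrict j)) :=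
      fun M hM => QCoh.isQCoh_pushforward j (QCoh.isQCoh_restrict j hM)
    by_cases hz : ∀ z : Γ(E, U₁), z = 0
    · refine ih (fun V hV => hl V (List.mem_cons_of_mem _ hV)) E hE hsupp (fun y hy => ?_) h0
      obtain ⟨V, hV, hyV⟩ := hc y hy
      rcases List.mem_cons.1 hV with rfl | hV
      · obtain ⟨m, hm⟩ := (QCoh.mem_support_iff hE hA₁ (hU₁.symm ▸ hyV)).1 hy
        refine absurd ?_ (hm 1 (by rw [X.basicOpen_of_isUnit isUnit_one]; exact hU₁.symm ▸ hyV))
        rw [hz m, smul_zero]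
      · exact ⟨V, hV, hyV⟩
    push Not at hz
    obtain ⟨m, hm⟩ := hz
    by_cases hK : IsZero (kernel (η.app E))
    swap
    · have hKq : Coh.IsQCoh (kernel (η.app E)) := QCoh.isQCoh_kernel hE (hJR E hE) _
      have hle : CohB1.support (kernel (η.app E)) ⊆ CohB1.support E :=
        support_subset_of_mono (kernel.ι (η.app E)) hKq hE
      obtain ⟨B, b, hb, hBq, hPB, hB0⟩ := ih (fun V hV => hl V (List.mem_cons_of_mem _ hV)) _ hKq
        (hle.trans hsupp) (fun y hy => by
          obtain ⟨V, hV, hyV⟩ := hc y (hle hy)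
          rcases List.mem_cons.1 hV with rfl | hV
          · obtain ⟨s, hs⟩ := (QCoh.mem_support_iff hKq hU hyV).1 hy
            refine absurd ?_ (hs 1 (by rw [X.basicOpen_of_isUnit isUnit_one]; exact hyV))
            have h2 : (η.app E).app _ ((kernel.ι (η.app E)).app _ s) = 0 :=
              congr(($(kernel.condition (η.app E))).app _ s)
            rw [one_smul]
            exact QCoh.app_injective (kernel.ι (η.app E)) _
              ((QCoh.unit_restrict_app_injective _ E le_rfl (h2.trans (map_zero _).symm)).trans (map_zero _).symm)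
          · exact ⟨V, hV, hyV⟩) hK
      exact ⟨B, b ≫ kernel.ι _, mono_comp _ _, hBq, hPB, hB0⟩
    haveI : Mono (η.app E) := Preadditive.mono_of_kernel_zero (hK.eq_of_src _ _)
    haveI : Module.FinitePresentation Γ(X, U₁) Γ(F, U₁) := QCoh.finitePresentation_of_isFP hF hA₁
    obtain ⟨z, hz0, hzk⟩ := exists_killed Γ(F, U₁) Γ(E, U₁) m hm fun a ha => by
      suffices a ∈ (Ideal.torsionOf Γ(X, U₁) Γ(E, U₁) m).radical by
        obtain ⟨k, hk⟩ := this
        exact ⟨k, hk⟩
      rw [Ideal.radical_eq_sInf, Ideal.mem_sInf]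
      rintro q ⟨hmq, hq⟩
      obtain ⟨y, hy, hyq⟩ := QCoh.exists_point hA₁ ⟨q, hq⟩
      have hyE : y ∈ CohB1.support E := (QCoh.mem_support_iff hE hA₁ hy).2 ⟨m, fun f hf h => by
        have := hmq ((Ideal.mem_torsionOf_iff _ _).2 h)
        rw [QCoh.mem_basicOpen_iff_notMem hA₁ hy, hyq] at hf
        exact hf this⟩
      obtain ⟨s, hs⟩ := (QCoh.mem_support_iff hFq hA₁ hy).1 (hsupp hyE)
      by_contra haq
      exact hs a (by rw [QCoh.mem_basicOpen_iff_notMem hA₁ hy, hyq]; exact haq) (Module.mem_annihilator.1 ha s)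
    classical
    obtain ⟨n, π, hπ⟩ := Module.Finite.exists_fin' Γ(X, U₁) Γ(F, U₁)
    let N : ULift.{u} (Fin n) → X.Modules := fun _ => F
    let Fn := ∐ N
    have hFnq : Coh.IsQCoh Fn := QCoh.isQCoh_colimit _ fun _ => hFq
    let pr : ∀ i : ULift.{u} (Fin n), Fn ⟶ F := fun i => Sigma.desc fun k => if k = i then 𝟙 F else 0
    let xs : ULift.{u} (Fin n) → Γ(F, U₁) := fun i => π (Pi.single i.down 1)
    let x : Γ(Fn, U₁) := ∑ i, (Sigma.ι N i).app U₁ (xs i)
    have hpr : ∀ i, (pr i).app U₁ x = xs i := fun i => by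
      simp only [x, map_sum]
      rw [Finset.sum_eq_single i]
      · rw [← ConcreteCategory.comp_apply, ← Scheme.Modules.Hom.comp_app, Sigma.ι_desc, if_pos rfl]; rfl
      · intro k _ hk
        rw [← ConcreteCategory.comp_apply, ← Scheme.Modules.Hom.comp_app, Sigma.ι_desc, if_neg hk]; rfl
      · simp
    have hann : ∀ a : Γ(X, U₁), a • x = 0 → a • z = 0 := fun a ha => hzk a (Module.mem_annihilator.2 fun y => by
      obtain ⟨y, rfl⟩ := hπ y
      have h : ∀ i, a • xs i = 0 := fun i => by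
        rw [← hpr i, ← Scheme.Modules.Hom.app_smul, ha, map_zero]
      rw [pi_eq_sum_univ' y, map_sum, Finset.smul_sum]
      exact Finset.sum_eq_zero fun i _ => by
        rw [map_smul, smul_comm, h ⟨i⟩, smul_zero])
    let φx : Coh.structureModule (U : Scheme.{u}) ⟶ Fn.restrict j := QCoh.homOfTop (P := Fn.restrict j) x
    let φz : Coh.structureModule (U : Scheme.{u}) ⟶ E.restrict j := QCoh.homOfTop (P := E.restrict j) z
    have hOq : Coh.IsQCoh (Coh.structureModule (U : Scheme.{u})) := QCoh.isQCoh_structureModule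
    have hk : kernel.ι φx ≫ φz = 0 := by
      refine QCoh.hom_eq_zero_of_cover (QCoh.isQCoh_kernel hOq (QCoh.isQCoh_restrict j hFnq) _)
        (QCoh.isQCoh_restrict j hE) _ (fun _ : PUnit.{1} => (⊤ : (U : Scheme.{u}).Opens))
        (fun _ => haveI : IsAffine (U : Scheme.{u}) := hU; isAffineOpen_top _) (fun y => ⟨⟨⟩, trivial⟩) fun _ s => ?_
      let a : Γ((U : Scheme.{u}), ⊤) := (kernel.ι φx).app ⊤ s
      have e : φx.app ⊤ a = 0 := congr(($(kernel.condition φx)).app ⊤ s)
      rw [QCoh.homOfTop_app, QCoh.map_id'] at e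
      show φz.app ⊤ a = 0
      rw [QCoh.homOfTop_app, QCoh.map_id']
      exact hann _ e
    let e := Abelian.coimage.π φx
    let S := Abelian.coimage φx
    let μ : S ⟶ Fn.restrict j := Abelian.factorThruCoimage φx
    let ψ : S ⟶ E.restrict j := cokernel.desc (kernel.ι φx) φz hk
    let Jp := Scheme.Modules.pushforward j
    have hSq : Coh.IsQCoh (Jp.obj S) := QCoh.isQCoh_pushforward j
      (QCoh.isQCoh_cokernel (QCoh.isQCoh_kernel hOq (QCoh.isQCoh_restrict j hFnq) _) hOq _)
    haveI : Mono (Jp.map μ) := Jp.map_mono μ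
    let G := pullback (η.app Fn) (Jp.map μ)
    have hGq : Coh.IsQCoh G := isQCoh_pullback _ _ hFnq hSq (hJR Fn hFnq)
    let ζ : G ⟶ Jp.obj (E.restrict j) := pullback.snd (η.app Fn) (Jp.map μ) ≫ Jp.map ψ
    let H := pullback ζ (η.app E)
    have hHq : Coh.IsQCoh H := isQCoh_pullback _ _ hGq hE (hJR E hE)
    have hPH : P H := of_mono hSerre (pullback.fst ζ (η.app E) ≫ pullback.fst (η.app Fn) (Jp.map μ)) hHq hFnq
      (hsum _ N (fun _ => hFq) fun _ => hPF)
    let h₁ := pullback.snd ζ (η.app E)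
    refine ⟨Abelian.image h₁, Abelian.image.ι h₁, inferInstance, isQCoh_image _ hHq hE,
      of_epi hSerre (Abelian.factorThruImage h₁) hHq (isQCoh_image _ hHq hE) hPH, fun h0' => hz0 ?_⟩
    have hh : h₁ = 0 := by rw [← Abelian.image.fac h₁, h0'.eq_of_tgt (Abelian.factorThruImage h₁) 0, zero_comp]
    let xh : KFlatLib.secObj U ⟶ Fn := (KFlatLib.secEquiv U Fn).symm x
    let zh : KFlatLib.secObj U ⟶ E := (KFlatLib.secEquiv U E).symm z
    let r : KFlatLib.secObj U ⟶ Jp.obj S := (KFlatLib.secEquiv U (Jp.obj S)).symm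
      (e.app (j ⁻¹ᵁ U₁) (1 : Γ((U : Scheme.{u}), j ⁻¹ᵁ U₁)))
    have h1 : r ≫ Jp.map μ = xh ≫ η.app Fn := (KFlatLib.secEquiv U _).injective (by
      rw [KFlatLib.secEquiv_naturality, KFlatLib.secEquiv_naturality, Equiv.apply_symm_apply, Equiv.apply_symm_apply]
      show (e ≫ μ).app (j ⁻¹ᵁ U₁) (1 : Γ((U : Scheme.{u}), j ⁻¹ᵁ U₁)) = (η.app Fn).app U₁ x
      rw [Abelian.coimage.fac, QCoh.homOfTop_app, one_smul]
      rfl)
    have h2 : r ≫ Jp.map ψ = zh ≫ η.app E := (KFlatLib.secEquiv U _).injective (by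
      rw [KFlatLib.secEquiv_naturality, KFlatLib.secEquiv_naturality, Equiv.apply_symm_apply, Equiv.apply_symm_apply]
      show (e ≫ ψ).app (j ⁻¹ᵁ U₁) (1 : Γ((U : Scheme.{u}), j ⁻¹ᵁ U₁)) = (η.app E).app U₁ z
      rw [show e ≫ ψ = φz from cokernel.π_desc _ _ _, QCoh.homOfTop_app, one_smul]
      rfl)
    let w : KFlatLib.secObj U ⟶ H := pullback.lift (pullback.lift xh r h1.symm) zh (by
      simp only [ζ, pullback.lift_snd_assoc]; exact h2)
    have : zh = 0 := by
      rw [← pullback.lift_snd (pullback.lift xh r h1.symm) zh (by simp only [ζ, pullback.lift_snd_assoc]; exact h2 :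
        _ ≫ ζ = zh ≫ η.app E)]
      exact (congrArg (w ≫ ·) hh).trans comp_zero
    have h3 := congrArg (KFlatLib.secEquiv U E) this
    rw [Equiv.apply_symm_apply] at h3
    have h4 := KFlatLib.secEquiv_naturality U (0 : KFlatLib.secObj U ⟶ E) (0 : E ⟶ E)
    rw [comp_zero] at h4
    exact h3.trans (h4.trans rfl)

theorem mem [CompactSpace X] {E : X.Modules} (hE : Coh.IsQCoh E) (hsupp : CohB1.support E ⊆ CohB1.support F) :
    P E := by
  classical
  haveI : WellPowered.{u} X.Modules := inferInstance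
  let σ := {s : Subobject E // P (s : X.Modules) ∧ Coh.IsQCoh (s : X.Modules)}
  haveI : Small.{u} σ := inferInstance
  let M : Shrink.{u} σ → X.Modules := fun i => (((equivShrink σ).symm i).1 : X.Modules)
  let d : ∐ M ⟶ E := Sigma.desc fun i => ((equivShrink σ).symm i).1.arrow
  have hMq : Coh.IsQCoh (∐ M) := QCoh.isQCoh_colimit _ fun i => ((equivShrink σ).symm i.as).2.2
  have hT : P (Abelian.image d) := of_epi hSerre (Abelian.factorThruImage d) hMq (isQCoh_image d hMq hE)
    (hsum _ M (fun i => ((equivShrink σ).symm i).2.2) fun i => ((equivShrink σ).symm i).2.1)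
  have hTq := isQCoh_image d hMq hE
  have hQ := QCoh.isQCoh_cokernel hMq hE d
  by_cases h0 : IsZero (cokernel d)
  · haveI : IsSplitEpi (Abelian.image.ι d) :=
      IsSplitEpi.mk' ⟨kernel.lift _ (𝟙 E) (h0.eq_of_tgt _ _), kernel.lift_ι _ _ _⟩
    haveI : IsIso (Abelian.image.ι d) := isIso_of_mono_of_isSplitEpi _
    exact of_epi hSerre (Abelian.image.ι d) hTq hE hT
  exfalso
  obtain ⟨l, hl, hlc⟩ : ∃ l : List X.Opens, (∀ U ∈ l, IsAffineOpen U) ∧ ∀ y : X, ∃ U ∈ l, y ∈ U := by
    obtain ⟨t, ht⟩ := isCompact_univ.elim_finite_subcover (fun U : X.affineOpens => (U.1 : Set X)) (fun U => U.1.2)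
      fun y _ => by
        obtain ⟨_, ⟨U, hU, rfl⟩, hy, -⟩ := X.isBasis_affineOpens.exists_subset_of_mem_open (Set.mem_univ y) isOpen_univ
        exact Set.mem_iUnion.2 ⟨⟨U, hU⟩, hy⟩
    refine ⟨(t.image Subtype.val).toList, fun U hU => ?_, fun y => ?_⟩
    · obtain ⟨V, -, rfl⟩ := Finset.mem_image.1 (Finset.mem_toList.1 hU); exact V.2
    · obtain ⟨V, hV⟩ := Set.mem_iUnion.1 (ht (Set.mem_univ y))
      obtain ⟨hVt, hy⟩ := Set.mem_iUnion.1 hV
      exact ⟨V.1, Finset.mem_toList.2 (Finset.mem_image_of_mem _ hVt), hy⟩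
  obtain ⟨B, b, hb, hBq, hPB, hB0⟩ := exists_sub hSerre hsum hFq hF hPF l hl (cokernel d) hQ
    ((QCoh.support_of_epi hE hQ (cokernel.π d)).trans hsupp) (fun y _ => hlc y) h0
  let T' := pullback (cokernel.π d) b
  let p := pullback.fst (cokernel.π d) b
  let g := pullback.snd (cokernel.π d) b
  have hT'q : Coh.IsQCoh T' := isQCoh_pullback _ b hE hBq hQ
  have hkq : Coh.IsQCoh (kernel g) := QCoh.isQCoh_kernel hT'q hBq g
  let a : kernel g ⟶ Abelian.image d := kernel.lift _ (kernel.ι g ≫ p)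
    (by simp [p, g, pullback.condition])
  haveI : Mono a := mono_of_mono_fac (kernel.lift_ι (cokernel.π d) (kernel.ι g ≫ p) _)
  have hPT' : P T' := of_kernel hSerre g hT'q hBq hPB (of_mono hSerre a hkq hTq hT)
  have hs : P (Subobject.mk p : X.Modules) ∧ Coh.IsQCoh (Subobject.mk p : X.Modules) :=
    ⟨of_mono hSerre (Subobject.underlyingIso p).hom ((QCoh.isQCoh_iff_iso (Subobject.underlyingIso p)).2 hT'q) hT'q hPT',
      (QCoh.isQCoh_iff_iso (Subobject.underlyingIso p)).2 hT'q⟩
  have hp : (Subobject.mk p).arrow ≫ cokernel.π d = 0 := by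
    have h1 : ∀ i, ((equivShrink σ).symm i).1.arrow ≫ cokernel.π d = 0 := fun i => by
      rw [← Sigma.ι_desc (fun i => ((equivShrink σ).symm i).1.arrow) i, Category.assoc]
      show _ ≫ d ≫ cokernel.π d = 0
      rw [cokernel.condition, comp_zero]
    have h2 : ∀ s t : σ, s = t → s.1.arrow ≫ cokernel.π d = 0 → t.1.arrow ≫ cokernel.π d = 0 := by
      rintro s _ rfl h; exact h
    exact h2 _ ⟨Subobject.mk p, hs⟩ ((equivShrink σ).symm_apply_apply _) (h1 _)
  have hp' : p ≫ cokernel.π d = 0 := by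
    rw [← Subobject.underlyingIso_arrow p] ; rw [Category.assoc, hp, comp_zero]
  have : g ≫ b = 0 := pullback.condition.symm.trans hp'
  refine hB0 ((IsZero.iff_id_eq_zero _).2 ((cancel_mono b).1 ?_))
  rw [Category.id_comp, zero_comp]
  exact (cancel_epi g).1 (this.trans comp_zero.symm)

end Groth.Agent.FunMorK.SerreSupp
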